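import Mathlib
import Groth.Prelude.Def_ShStab
import Groth.Agent.Lib.Helper1.SnapK2
import Groth.Agent.Lib.Helper4.TwExact

/-!
# Basic properties of Hilbert polynomials `ShStab.IsHilbPoly` (helper2)

Twisting by an invertible module is exact and preserves coherence, so Euler characteristics of twists are
additive in short exact sequences; existence (Snapper, helper1), uniqueness and the degree bound.
-/

set_option autoImplicit false
universe u
open CategoryTheory CategoryTheory.Limits AlgebraicGeometry Polynomial

namespace Groth.Agent.Helper2.HilbBasic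

open Groth.Agent.Helper1 Groth.Agent.Helper1.Euler Groth.Agent.Helper1.TwForm
open Groth.Agent.Lib.Helper4

section General

variable {X : Scheme.{u}}

theorem twist_eq (L E : X.Modules) (m : ℕ) :
    ShStab.twist X L E m = (DCoh.tensorRightMod (CohB1.tensorPow L m)).obj E := rfl

theorem isCoh_twist {L E : X.Modules} (hL : PicF.IsInvertible L) (hE : Coh.IsCoh E) (m : ℕ) :
    Coh.IsCoh (ShStab.twist X L E m) :=
  isCoh_tensor _ _ hE (InvQc.isCoh_of_isInvertible _ (isInvertible_tensorPow hL m))

/-- twisting a short exact sequence by `L^{⊗ m}` -/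
theorem shortExact_twist {L : X.Modules} (hL : PicF.IsInvertible L) {S : ShortComplex X.Modules}
    (hS : S.ShortExact) (m : ℕ) :
    (S.map (DCoh.tensorRightMod (CohB1.tensorPow L m))).ShortExact :=
  TwExact.shortExact_map (TwExact.locGen_of_isInvertible _ (isInvertible_tensorPow hL m)) hS

/-- twists of isomorphic modules are isomorphic -/
noncomputable def twistIso (L : X.Modules) {E E' : X.Modules} (e : E ≅ E') (m : ℕ) :
    ShStab.twist X L E m ≅ ShStab.twist X L E' m :=
  (DCoh.tensorRightMod (CohB1.tensorPow L m)).mapIso e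

end General

section Field

variable (k : Type u) [Field k] (X : Scheme.{u}) [X.Over (Spec (CommRingCat.of k))]
  [IsProper (X ↘ (Spec (CommRingCat.of k)))]

/-- additivity of the Euler characteristics of the twists in a short exact sequence of coherent modules -/
theorem euler_twist_additive {L : X.Modules} (hL : PicF.IsInvertible L) (S : ShortComplex X.Modules)
    (hS : S.ShortExact) (h₁ : Coh.IsCoh S.X₁) (h₂ : Coh.IsCoh S.X₂) (h₃ : Coh.IsCoh S.X₃) (m : ℕ) :
    Curv2.euler k X (ShStab.twist X L S.X₂ m) =
      Curv2.euler k X (ShStab.twist X L S.X₁ m) + Curv2.euler k X (ShStab.twist X L S.X₃ m) := by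
  have c₁ : Coh.IsCoh (S.map (DCoh.tensorRightMod (CohB1.tensorPow L m))).X₁ := by
    change Coh.IsCoh ((DCoh.tensorRightMod (CohB1.tensorPow L m)).obj S.X₁)
    rw [← twist_eq]
    exact isCoh_twist hL h₁ m
  have c₂ : Coh.IsCoh (S.map (DCoh.tensorRightMod (CohB1.tensorPow L m))).X₂ := by
    change Coh.IsCoh ((DCoh.tensorRightMod (CohB1.tensorPow L m)).obj S.X₂)
    rw [← twist_eq]
    exact isCoh_twist hL h₂ m
  have c₃ : Coh.IsCoh (S.map (DCoh.tensorRightMod (CohB1.tensorPow L m))).X₃ := by
    change Coh.IsCoh ((DCoh.tensorRightMod (CohB1.tensorPow L m)).obj S.X₃)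
    rw [← twist_eq]
    exact isCoh_twist hL h₃ m
  have h := euler_additive k X (S.map (DCoh.tensorRightMod (CohB1.tensorPow L m)))
    (shortExact_twist hL hS m) c₁ c₂ c₃
  rw [twist_eq, twist_eq, twist_eq]
  exact h

omit [IsProper (X ↘ (Spec (CommRingCat.of k)))] in
theorem euler_twist_iso (L : X.Modules) {E E' : X.Modules} (e : E ≅ E') (m : ℕ) :
    Curv2.euler k X (ShStab.twist X L E m) = Curv2.euler k X (ShStab.twist X L E' m) :=
  euler_iso k X (twistIso L e m)

end Field

end Groth.Agent.Helper2.HilbBasic
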