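import Mathlib

/-!
# Asymptotics of real polynomials along the natural numbers (helper2)
-/

set_option autoImplicit false

namespace Groth.Agent.Helper2.PolyAsymp

open Polynomial Filter Topology Finset

/-- `P(m) / m^e → coeff_e(P)` when `deg P ≤ e`. -/
theorem tendsto_eval_div_pow (P : ℝ[X]) (e : ℕ) (h : P.natDegree ≤ e) :
    Tendsto (fun m : ℕ => P.eval (m : ℝ) / (m : ℝ) ^ e) atTop (𝓝 (P.coeff e)) := by
  have hsum : ∀ x : ℝ, P.eval x = ∑ i ∈ Finset.range (e + 1), P.coeff i * x ^ i := fun x =>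
    Polynomial.eval_eq_sum_range' (Nat.lt_succ_of_le h) x
  have hrew : ∀ m : ℕ, P.eval (m : ℝ) / (m : ℝ) ^ e =
      ∑ i ∈ Finset.range (e + 1), P.coeff i * ((m : ℝ) ^ i / (m : ℝ) ^ e) := by
    intro m
    rw [hsum, Finset.sum_div]
    exact Finset.sum_congr rfl fun i _ => by rw [mul_div_assoc]
  simp_rw [hrew]
  have hlim : ∀ i ∈ Finset.range (e + 1),
      Tendsto (fun m : ℕ => P.coeff i * ((m : ℝ) ^ i / (m : ℝ) ^ e)) atTop
        (𝓝 (if i = e then P.coeff e else 0)) := by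
    intro i hi
    have hie : i ≤ e := Nat.lt_succ_iff.1 (Finset.mem_range.1 hi)
    by_cases hieq : i = e
    · subst hieq
      rw [if_pos rfl]
      refine Tendsto.congr' ?_ tendsto_const_nhds
      filter_upwards [eventually_ge_atTop 1] with m hm
      have hm0 : ((m : ℝ)) ^ i ≠ 0 := pow_ne_zero _ (by exact_mod_cast (by omega : m ≠ 0))
      rw [div_self hm0, mul_one]
    · rw [if_neg hieq]
      have hlt : i < e := lt_of_le_of_ne hie hieq
      have h1 : Tendsto (fun m : ℕ => ((m : ℝ) ^ (e - i))⁻¹) atTop (𝓝 0) :=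
        tendsto_inv_atTop_zero.comp
          ((tendsto_pow_atTop (by omega : e - i ≠ 0)).comp tendsto_natCast_atTop_atTop)
      have h2 : Tendsto (fun m : ℕ => P.coeff i * ((m : ℝ) ^ (e - i))⁻¹) atTop (𝓝 0) := by
        simpa using h1.const_mul (P.coeff i)
      refine Tendsto.congr' ?_ h2
      filter_upwards [eventually_ge_atTop 1] with m hm
      have hm0 : (m : ℝ) ≠ 0 := by exact_mod_cast (by omega : m ≠ 0)
      congr 1
      rw [eq_div_iff (pow_ne_zero _ hm0), inv_mul_eq_div, div_eq_iff (pow_ne_zero _ hm0),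
        ← pow_add]
      congr 1
      omega
  have h3 := tendsto_finsetSum (Finset.range (e + 1)) hlim
  have h4 : ∑ i ∈ Finset.range (e + 1), (if i = e then P.coeff e else 0) = P.coeff e := by
    rw [Finset.sum_ite_eq' (Finset.range (e + 1)) e (fun _ => P.coeff e)]
    rw [if_pos (Finset.mem_range.2 (Nat.lt_succ_self e))]
  rw [h4] at h3
  exact h3

/-- a polynomial of degree `≤ e` which is eventually `≤ 0` on the naturals has `coeff_e ≤ 0` -/
theorem coeff_nonpos_of_eventually_nonpos (P : ℝ[X]) (e : ℕ) (h : P.natDegree ≤ e)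
    (hev : ∃ M : ℕ, ∀ m : ℕ, M ≤ m → P.eval (m : ℝ) ≤ 0) : P.coeff e ≤ 0 := by
  obtain ⟨M, hM⟩ := hev
  refine le_of_tendsto (tendsto_eval_div_pow P e h) ?_
  filter_upwards [eventually_ge_atTop M] with m hm
  exact div_nonpos_of_nonpos_of_nonneg (hM m hm) (pow_nonneg (Nat.cast_nonneg m) e)

/-- a polynomial of degree `≤ e` which is eventually `≥ 0` on the naturals has `coeff_e ≥ 0` -/
theorem coeff_nonneg_of_eventually_nonneg (P : ℝ[X]) (e : ℕ) (h : P.natDegree ≤ e)
    (hev : ∃ M : ℕ, ∀ m : ℕ, M ≤ m → 0 ≤ P.eval (m : ℝ)) : 0 ≤ P.coeff e := by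
  obtain ⟨M, hM⟩ := hev
  refine ge_of_tendsto (tendsto_eval_div_pow P e h) ?_
  filter_upwards [eventually_ge_atTop M] with m hm
  exact div_nonneg (hM m hm) (pow_nonneg (Nat.cast_nonneg m) e)

/-- a polynomial of degree `≤ e` with `coeff_e < 0` is eventually negative on the naturals -/
theorem eventually_neg_of_coeff_neg (P : ℝ[X]) (e : ℕ) (h : P.natDegree ≤ e) (hc : P.coeff e < 0) :
    ∃ M : ℕ, ∀ m : ℕ, M ≤ m → P.eval (m : ℝ) < 0 := by
  have h1 := (tendsto_eval_div_pow P e h).eventually (gt_mem_nhds hc)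
  have h2 := h1.and (eventually_ge_atTop 1)
  obtain ⟨M, hM⟩ := eventually_atTop.1 h2
  refine ⟨M, fun m hm => ?_⟩
  obtain ⟨h3, h4⟩ := hM m hm
  have hpos : (0 : ℝ) < (m : ℝ) ^ e := pow_pos (by exact_mod_cast (by omega : 0 < m)) e
  by_contra hcon
  rw [not_lt] at hcon
  exact absurd h3 (not_lt.2 (div_nonneg hcon hpos.le))

end Groth.Agent.Helper2.PolyAsymp
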