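import Mathlib
import Groth.Agent.Lib.Helper2.ShStab.HilbBasic
import Groth.Agent.Lib.Helper2.ShStab.PolyAsymp
import Groth.Agent.Lib.Helper1.SerreAmple1
import Groth.Agent.Lib.Helper1.Dv15
import Groth.Agent.Lib.Helper1.VB2

/-!
# Hilbert polynomials `ShStab.IsHilbPoly`: existence, uniqueness, additivity, degree, positivity (helper2)
-/

set_option autoImplicit false
universe u
open CategoryTheory CategoryTheory.Limits AlgebraicGeometry Polynomial

namespace Groth.Agent.Helper2.HilbPoly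

open Groth.Agent.Helper1 Groth.Agent.Helper1.Euler Groth.Agent.Helper1.TwForm
open Groth.Agent.Helper2.HilbBasic

/-- two rational polynomials agreeing on the natural numbers are equal -/
theorem poly_eq_of_eval_nat {P Q : ℚ[X]} (h : ∀ m : ℕ, P.eval (m : ℚ) = Q.eval (m : ℚ)) : P = Q := by
  apply Polynomial.eq_of_infinite_eval_eq
  refine Set.infinite_of_injective_forall_mem (f := fun n : ℕ => (n : ℚ)) Nat.cast_injective ?_
  intro m
  exact h m

theorem eval_aeval_X (P : MvPolynomial (Fin 1) ℚ) (x : ℚ) :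
    (MvPolynomial.aeval (fun _ : Fin 1 => (Polynomial.X : ℚ[X])) P).eval x =
      MvPolynomial.eval (fun _ => x) P := by
  induction P using MvPolynomial.induction_on with
  | C a => simp
  | add p q hp hq => simp [hp, hq]
  | mul_X p i hp => simp [hp]

variable (k : Type u) [Field k] (X : Scheme.{u}) [X.Over (Spec (CommRingCat.of k))]
  [IsProper (X ↘ (Spec (CommRingCat.of k)))]

omit [IsProper (X ↘ (Spec (CommRingCat.of k)))] in
/-- uniqueness of the Hilbert polynomial -/
theorem unique {L E : X.Modules} {P P' : ℚ[X]} (h : ShStab.IsHilbPoly k X L E P)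
    (h' : ShStab.IsHilbPoly k X L E P') : P = P' :=
  poly_eq_of_eval_nat fun m => by rw [← h m, ← h' m]

/-- invariance under isomorphism -/
theorem of_iso {L E E' : X.Modules} (e : E ≅ E') {P : ℚ[X]} (h : ShStab.IsHilbPoly k X L E P) :
    ShStab.IsHilbPoly k X L E' P := fun m => by
  rw [← h m, euler_twist_iso k X L e m]

/-- existence of the Hilbert polynomial, with the degree bound of Snapper's theorem -/
theorem exists_of_dim_le {L E : X.Modules} (hL : PicF.IsInvertible L) (hE : Coh.IsCoh E) (d : ℕ)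
    (hd : topologicalKrullDim (CohB1.support E) ≤ d) :
    ∃ P : ℚ[X], ShStab.IsHilbPoly k X L E P ∧ P.natDegree ≤ d := by
  haveI : IsNoetherian X := isNoetherian_of_proper k X
  obtain ⟨P, hP, h⟩ := Snap.snapper k X E hE d hd 1 (fun _ => L) (fun _ => hL)
  refine ⟨MvPolynomial.aeval (fun _ : Fin 1 => (Polynomial.X : ℚ[X])) P, fun m => ?_, ?_⟩
  · have h1 := h (fun _ => m)
    rw [eval_aeval_X]
    exact h1
  · have := MvPolynomial.aeval_natDegree_le P hP (fun _ : Fin 1 => (Polynomial.X : ℚ[X]))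
      (n := 1) (fun _ => Polynomial.natDegree_X_le)
    simpa using this

/-- the degree bound -/
theorem natDegree_le {L E : X.Modules} (hL : PicF.IsInvertible L) (hE : Coh.IsCoh E) (d : ℕ)
    (hd : topologicalKrullDim (CohB1.support E) ≤ d) {P : ℚ[X]}
    (hP : ShStab.IsHilbPoly k X L E P) : P.natDegree ≤ d := by
  obtain ⟨P', hP', hdeg⟩ := exists_of_dim_le k X hL hE d hd
  rwa [unique k X hP hP']

omit [IsProper (X ↘ (Spec (CommRingCat.of k)))] in
/-- the Hilbert polynomial of a zero module is zero -/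
theorem eq_zero_of_isZero {L E : X.Modules} (hE : IsZero E) {P : ℚ[X]}
    (hP : ShStab.IsHilbPoly k X L E P) : P = 0 := by
  apply poly_eq_of_eval_nat
  intro m
  rw [← hP m, Polynomial.eval_zero]
  have hz : IsZero (ShStab.twist X L E m) :=
    (DCoh.tensorRightMod (CohB1.tensorPow L m)).map_isZero hE
  rw [VB.euler_of_isZero k X hz]
  simp

/-- vanishing of the coefficients in degrees `≥ d` when the support has dimension `< d` -/
theorem coeff_eq_zero_of_dim_lt {L E : X.Modules} (hL : PicF.IsInvertible L) (hE : Coh.IsCoh E)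
    (d : ℕ) (hd : topologicalKrullDim (CohB1.support E) < (d : WithBot ℕ∞)) {P : ℚ[X]}
    (hP : ShStab.IsHilbPoly k X L E P) (n : ℕ) (hn : d ≤ n) : P.coeff n = 0 := by
  cases d with
  | zero =>
    -- the support is empty
    have hemp : CohB1.support E ⊆ ∅ := by
      intro x hx
      exfalso
      haveI : Nonempty (TopologicalSpace.IrreducibleCloseds ↥(CohB1.support E)) :=
        ⟨⟨closure {⟨x, hx⟩}, isIrreducible_singleton.closure, isClosed_closure⟩⟩
      have h0 : (0 : WithBot ℕ∞) ≤ topologicalKrullDim (CohB1.support E) :=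
        Order.krullDim_nonneg
      exact absurd (lt_of_le_of_lt h0 hd) (by simp)
    rw [eq_zero_of_isZero k X (Dv.isZero_of_support_subset_empty E hemp) hP]
    simp
  | succ d =>
    have hd' : topologicalKrullDim (CohB1.support E) ≤ (d : WithBot ℕ∞) :=
      (Snap.lt_succ_iff_le _ d).1 hd
    have := natDegree_le k X hL hE d hd' hP
    exact Polynomial.coeff_eq_zero_of_natDegree_lt (by omega)

/-- additivity of Hilbert polynomials in short exact sequences of coherent modules -/
theorem add {L : X.Modules} (hL : PicF.IsInvertible L) (S : ShortComplex X.Modules)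
    (hS : S.ShortExact) (h₁ : Coh.IsCoh S.X₁) (h₂ : Coh.IsCoh S.X₂) (h₃ : Coh.IsCoh S.X₃)
    {P₁ P₃ : ℚ[X]} (hP₁ : ShStab.IsHilbPoly k X L S.X₁ P₁) (hP₃ : ShStab.IsHilbPoly k X L S.X₃ P₃) :
    ShStab.IsHilbPoly k X L S.X₂ (P₁ + P₃) := fun m => by
  rw [euler_twist_additive k X hL S hS h₁ h₂ h₃ m, Polynomial.eval_add, ← hP₁ m, ← hP₃ m]
  push_cast
  rfl

theorem eq_add {L : X.Modules} (hL : PicF.IsInvertible L) (S : ShortComplex X.Modules)
    (hS : S.ShortExact) (h₁ : Coh.IsCoh S.X₁) (h₂ : Coh.IsCoh S.X₂) (h₃ : Coh.IsCoh S.X₃)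
    {P₁ P₂ P₃ : ℚ[X]} (hP₁ : ShStab.IsHilbPoly k X L S.X₁ P₁) (hP₂ : ShStab.IsHilbPoly k X L S.X₂ P₂)
    (hP₃ : ShStab.IsHilbPoly k X L S.X₃ P₃) : P₂ = P₁ + P₃ :=
  unique k X hP₂ (add k X hL S hS h₁ h₂ h₃ hP₁ hP₃)

/-- for an ample `L`, the Euler characteristic of a large twist is a dimension, hence non-negative -/
theorem eventually_euler_twist_nonneg {L E : X.Modules} (hL : CohB1.IsAmple L) (hE : Coh.IsCoh E) :
    ∃ n₀ : ℕ, ∀ n : ℕ, n₀ ≤ n → 0 ≤ Curv2.euler k X (ShStab.twist X L E n) := by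
  obtain ⟨n₀, h⟩ := SerreAmple.serre_vanishing k (X ↘ Spec (CommRingCat.of k)) hL E hE
  refine ⟨n₀, fun n hn => ?_⟩
  rw [euler_eq_sum k X 1 (ShStab.twist X L E n) (fun p hp => h n hn p hp)]
  simp

/-- the coefficient of degree `e` of a Hilbert polynomial of degree `≤ e` is non-negative (`L` ample) -/
theorem coeff_nonneg {L E : X.Modules} (hL : CohB1.IsAmple L) (hE : Coh.IsCoh E) {P : ℚ[X]}
    (hP : ShStab.IsHilbPoly k X L E P) (e : ℕ) (he : P.natDegree ≤ e) : 0 ≤ P.coeff e := by
  obtain ⟨n₀, h⟩ := eventually_euler_twist_nonneg k X hL hE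
  have h1 : 0 ≤ (P.map (Rat.castHom ℝ)).coeff e := by
    apply PolyAsymp.coeff_nonneg_of_eventually_nonneg _ e
      ((Polynomial.natDegree_map_le).trans he)
    refine ⟨n₀, fun m hm => ?_⟩
    have h2 : (P.map (Rat.castHom ℝ)).eval (m : ℝ) = ((P.eval (m : ℚ) : ℚ) : ℝ) := by
      have := Polynomial.eval_map_apply (p := P) (Rat.castHom ℝ) (m : ℚ)
      simpa using this
    rw [h2, ← hP m]
    have := h m hm
    exact_mod_cast this
  rw [Polynomial.coeff_map] at h1
  have h3 : ((0 : ℚ) : ℝ) ≤ ((P.coeff e : ℚ) : ℝ) := by simpa using h1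
  exact_mod_cast h3

end Groth.Agent.Helper2.HilbPoly
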