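import Mathlib

/-!
# Abel summation for weighted filtrations (helper2)
-/

set_option autoImplicit false

namespace Groth.Agent.Helper2.ParAbel

open Finset

section Ring
variable {R : Type*} [CommRing R]

theorem sum_succ_sub_castSucc (n : ℕ) (a : Fin (n + 2) → R) :
    ∑ j : Fin (n + 1), (a j.succ - a j.castSucc) = a (Fin.last (n + 1)) - a 0 := by
  have h1 := Fin.sum_univ_castSucc a
  have h2 := Fin.sum_univ_succ a
  rw [Finset.sum_sub_distrib]
  rw [h1] at h2
  linear_combination (-1 : R) * h2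

/-- Abel summation: `c_{l+1} + Σ_j a_j (c_j − c_{j+1}) = a_0 c_0 + Σ_j (a_{j+1} − a_j) c_{j+1}` when `a_{l+1} = 1`. -/
theorem abel (n : ℕ) (a c : Fin (n + 2) → R) (ha : a (Fin.last (n + 1)) = 1) :
    c (Fin.last (n + 1)) + ∑ j : Fin (n + 1), a j.castSucc * (c j.castSucc - c j.succ) =
      a 0 * c 0 + ∑ j : Fin (n + 1), (a j.succ - a j.castSucc) * c j.succ := by
  have h1 := Fin.sum_univ_castSucc (fun i => a i * c i)
  have h2 := Fin.sum_univ_succ (fun i => a i * c i)
  rw [h1] at h2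
  simp only [ha, one_mul] at h2
  simp only [mul_sub, sub_mul, Finset.sum_sub_distrib]
  linear_combination h2

/-- the form used for the parabolic Hilbert function: `c_{l+1} + Σ_j a_j (c_j − c_{j+1}) =
c_0 − Σ_j (a_{j+1} − a_j) (c_0 − c_{j+1})`. -/
theorem abel' (n : ℕ) (a c : Fin (n + 2) → R) (ha : a (Fin.last (n + 1)) = 1) :
    c (Fin.last (n + 1)) + ∑ j : Fin (n + 1), a j.castSucc * (c j.castSucc - c j.succ) =
      c 0 - ∑ j : Fin (n + 1), (a j.succ - a j.castSucc) * (c 0 - c j.succ) := by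
  rw [abel n a c ha]
  have h3 := sum_succ_sub_castSucc n a
  rw [ha] at h3
  have h4 : ∑ j : Fin (n + 1), (a j.succ - a j.castSucc) * (c 0 - c j.succ) =
      (∑ j : Fin (n + 1), (a j.succ - a j.castSucc)) * c 0 -
        ∑ j : Fin (n + 1), (a j.succ - a j.castSucc) * c j.succ := by
    rw [Finset.sum_mul, ← Finset.sum_sub_distrib]
    refine Finset.sum_congr rfl fun j _ => ?_
    ring
  rw [h4, h3]
  ring

end Ring

end Groth.Agent.Helper2.ParAbel
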