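import Mathlib
import Groth.Prelude.Def_W4swparbununimodPar
import Groth.Agent.Lib.Helper2.ShStab.HilbPoly
import Groth.Agent.Lib.Helper2.ShStab.Abel
import Groth.Agent.Lib.Helper4.LimTopInj

/-!
# The parabolic Hilbert polynomial of a weighted filtration (helper2)

For a weighted filtration `𝓔` of a coherent module `E` on a proper `k`-scheme with coherent pieces:
`parPoly 𝓔 PX = P − Σ_j (w_{j+1} − w_j) · H_{j+1}` where `H_j` is the Hilbert polynomial of `E / E_j`.
-/

set_option autoImplicit false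
universe u
open CategoryTheory CategoryTheory.Limits AlgebraicGeometry Polynomial

namespace Groth.Agent.Helper2.ParPoly

open Groth.Agent.Helper1 Groth.Agent.Helper1.Euler
open Groth.Agent.Helper2.HilbBasic Groth.Agent.Helper2

section General

variable {X : Scheme.{u}}

/-- the cokernel of a morphism of coherent modules is coherent -/
theorem isCoh_cokernel {M N : X.Modules} (φ : M ⟶ N) (hM : Coh.IsCoh M) (hN : Coh.IsCoh N) :
    Coh.IsCoh (cokernel φ) := by
  haveI := hM.1
  haveI := hN.1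
  haveI : (cokernel φ).IsQuasicoherent := QcAbel.isQuasicoherent_cokernel φ
  exact Groth.Agent.Lib.Helper4.LimTopInj.isCoh_of_epi (cokernel.π φ) hN

/-- the short exact sequence `0 → A → E → E/A → 0` of a subobject -/
noncomputable def subSC {E : X.Modules} (A : Subobject E) : ShortComplex X.Modules :=
  ShortComplex.mk A.arrow (cokernel.π A.arrow) (cokernel.condition _)

theorem subSC_shortExact {E : X.Modules} (A : Subobject E) : (subSC A).ShortExact := by
  haveI : Mono (subSC A).f := inferInstanceAs (Mono A.arrow)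
  haveI : Epi (subSC A).g := inferInstanceAs (Epi (cokernel.π A.arrow))
  exact { exact := ShortComplex.exact_cokernel A.arrow }

theorem pieceX_zero {E : X.Modules} (𝓔 : ParSh.Str E) : 𝓔.pieceX 0 = ⊤ := by
  have h : (0 : Fin (𝓔.l + 2)) = (0 : Fin (𝓔.l + 1)).castSucc := rfl
  rw [h, ParSh.Str.pieceX_castSucc, 𝓔.piece_zero]

theorem wtX_zero {E : X.Modules} (𝓔 : ParSh.Str E) : 𝓔.wtX 0 = 𝓔.wt 0 := by
  have h : (0 : Fin (𝓔.l + 2)) = (0 : Fin (𝓔.l + 1)).castSucc := rfl
  rw [h, ParSh.Str.wtX_castSucc]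

theorem wtX_castSucc_lt_succ {E : X.Modules} (𝓔 : ParSh.Str E) (j : Fin (𝓔.l + 1)) :
    𝓔.wtX j.castSucc < 𝓔.wtX j.succ := by
  induction j using Fin.lastCases with
  | last =>
    rw [ParSh.Str.wtX_castSucc, Fin.succ_last, ParSh.Str.wtX_last]
    exact 𝓔.wt_lt_one
  | cast j =>
    rw [ParSh.Str.wtX_castSucc, Fin.succ_castSucc, ParSh.Str.wtX_castSucc]
    exact 𝓔.wt_strictMono (Fin.castSucc_lt_succ)

theorem sum_wtX_diff {E : X.Modules} (𝓔 : ParSh.Str E) :
    ∑ j : Fin (𝓔.l + 1), (𝓔.wtX j.succ - 𝓔.wtX j.castSucc) = 1 - 𝓔.wt 0 := by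
  rw [ParAbel.sum_succ_sub_castSucc 𝓔.l 𝓔.wtX, ParSh.Str.wtX_last, wtX_zero]

theorem rpoly_eval_nat (Q : ℚ[X]) (m : ℕ) :
    (W4swparbununimod.rpoly Q).eval (m : ℝ) = ((Q.eval (m : ℚ) : ℚ) : ℝ) := by
  have := Polynomial.eval_map_apply (p := Q) (Rat.castHom ℝ) (m : ℚ)
  simpa using this

/-- the Abel-summed form of the parabolic polynomial -/
theorem parPoly_eq_sub {E : X.Modules} (𝓔 : ParSh.Str E) (P : ℚ[X]) (PX H : Fin (𝓔.l + 2) → ℚ[X])
    (h0 : PX 0 = P) (hH : ∀ j, P = PX j + H j) :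
    W4swparbununimod.parPoly 𝓔 PX =
      W4swparbununimod.rpoly P -
        ∑ j : Fin (𝓔.l + 1), Polynomial.C (𝓔.wtX j.succ - 𝓔.wtX j.castSucc) *
          W4swparbununimod.rpoly (H j.succ) := by
  have hab := ParAbel.abel' (R := ℝ[X]) 𝓔.l (fun j => Polynomial.C (𝓔.wtX j))
    (fun j => W4swparbununimod.rpoly (PX j)) (by
      change Polynomial.C (𝓔.wtX (Fin.last (𝓔.l + 1))) = 1
      rw [ParSh.Str.wtX_last, Polynomial.C_1])
  unfold W4swparbununimod.parPoly
  simp only [ParSh.Str.wtX_castSucc] at hab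
  rw [hab, h0]
  congr 1
  refine Finset.sum_congr rfl fun j _ => ?_
  have e1 : W4swparbununimod.rpoly P - W4swparbununimod.rpoly (PX j.succ) =
      W4swparbununimod.rpoly (H j.succ) := by
    have h2 : W4swparbununimod.rpoly P =
        W4swparbununimod.rpoly (PX j.succ) + W4swparbununimod.rpoly (H j.succ) := by
      conv_lhs => rw [hH j.succ]
      exact Polynomial.map_add _
    rw [h2]
    ring
  rw [e1, ← Polynomial.C_sub, ParSh.Str.wtX_castSucc]

end General

section Field

variable (k : Type u) [Field k] (X : Scheme.{u}) [X.Over (Spec (CommRingCat.of k))]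
  [IsProper (X ↘ (Spec (CommRingCat.of k)))]

/-- the Hilbert polynomial of the top piece is that of `E` -/
theorem PX_zero_eq {L E : X.Modules} (𝓔 : ParSh.Str E) {P : ℚ[X]} (hP : ShStab.IsHilbPoly k X L E P)
    {P0 : ℚ[X]} (hP0 : ShStab.IsHilbPoly k X L ((𝓔.pieceX 0 : Subobject E) : X.Modules) P0) :
    P0 = P := by
  have h : ∀ (A : Subobject E), A = ⊤ →
      ShStab.IsHilbPoly k X L (A : X.Modules) P0 → P0 = P := by
    rintro A rfl hA
    exact HilbPoly.unique k X (HilbPoly.of_iso k X (asIso (⊤ : Subobject E).arrow) hA) hP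
  exact h _ (pieceX_zero 𝓔) hP0

/-- `P = P_A + H_A` for a coherent subobject `A` of a coherent module -/
theorem eq_add_quot {L E : X.Modules} (hL : PicF.IsInvertible L) (hE : Coh.IsCoh E) (A : Subobject E)
    (hA : Coh.IsCoh (A : X.Modules)) {P PA HA : ℚ[X]} (hP : ShStab.IsHilbPoly k X L E P)
    (hPA : ShStab.IsHilbPoly k X L (A : X.Modules) PA)
    (hHA : ShStab.IsHilbPoly k X L (cokernel A.arrow) HA) : P = PA + HA :=
  HilbPoly.eq_add k X hL (subSC A) (subSC_shortExact A) hA hE (isCoh_cokernel _ hA hE) hPA hP hHA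

/-- `P − H_A` is the Hilbert polynomial of `A` -/
theorem isHilbPoly_sub_quot {L E : X.Modules} (hL : PicF.IsInvertible L) (hE : Coh.IsCoh E)
    (A : Subobject E) (hA : Coh.IsCoh (A : X.Modules)) {P HA : ℚ[X]}
    (hP : ShStab.IsHilbPoly k X L E P)
    (hHA : ShStab.IsHilbPoly k X L (cokernel A.arrow) HA) :
    ShStab.IsHilbPoly k X L (A : X.Modules) (P - HA) := fun m => by
  have h := euler_twist_additive k X hL (subSC A) (subSC_shortExact A) hA hE
    (isCoh_cokernel _ hA hE) m
  change Curv2.euler k X (ShStab.twist X L E m) =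
    Curv2.euler k X (ShStab.twist X L (A : X.Modules) m) +
      Curv2.euler k X (ShStab.twist X L (cokernel A.arrow) m) at h
  rw [Polynomial.eval_sub, ← hP m, ← hHA m, h]
  push_cast
  ring

/-- `P − P_A` is the Hilbert polynomial of `E / A` -/
theorem isHilbPoly_quot_sub {L E : X.Modules} (hL : PicF.IsInvertible L) (hE : Coh.IsCoh E)
    (A : Subobject E) (hA : Coh.IsCoh (A : X.Modules)) {P PA : ℚ[X]}
    (hP : ShStab.IsHilbPoly k X L E P)
    (hPA : ShStab.IsHilbPoly k X L (A : X.Modules) PA) :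
    ShStab.IsHilbPoly k X L (cokernel A.arrow) (P - PA) := fun m => by
  have h := euler_twist_additive k X hL (subSC A) (subSC_shortExact A) hA hE
    (isCoh_cokernel _ hA hE) m
  change Curv2.euler k X (ShStab.twist X L E m) =
    Curv2.euler k X (ShStab.twist X L (A : X.Modules) m) +
      Curv2.euler k X (ShStab.twist X L (cokernel A.arrow) m) at h
  rw [Polynomial.eval_sub, ← hP m, ← hPA m, h]
  push_cast
  ring

omit [IsProper (X ↘ (Spec (CommRingCat.of k)))] in
/-- the parabolic Hilbert function is the value of the parabolic polynomial -/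
theorem parHilb_eq_eval {L E : X.Modules} (𝓔 : ParSh.Str E) (PX : Fin (𝓔.l + 2) → ℚ[X])
    (hPX : ∀ j, ShStab.IsHilbPoly k X L ((𝓔.pieceX j : Subobject E) : X.Modules) (PX j)) (m : ℕ) :
    𝓔.parHilb k X L m = (W4swparbununimod.parPoly 𝓔 PX).eval (m : ℝ) := by
  have hval : ∀ j, (W4swparbununimod.rpoly (PX j)).eval (m : ℝ) =
      (Curv2.euler k X (ShStab.twist X L ((𝓔.pieceX j : Subobject E) : X.Modules) m) : ℝ) := by
    intro j
    rw [rpoly_eval_nat, ← hPX j m]
    norm_cast
  unfold ParSh.Str.parHilb ParSh.Str.parSum W4swparbununimod.parPoly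
  rw [Polynomial.eval_add, Polynomial.eval_finsetSum]
  congr 1
  · rw [hval, ParSh.Str.pieceX_last]
  · refine Finset.sum_congr rfl fun j _ => ?_
    rw [Polynomial.eval_mul, Polynomial.eval_C, Polynomial.eval_sub, hval, hval,
      ParSh.Str.pieceX_castSucc]

end Field

end Groth.Agent.Helper2.ParPoly
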