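import Mathlib

/-!
# Pullback of a subobject along a morphism in an abelian category, as a kernel (helper2)
-/

set_option autoImplicit false
universe v u
open CategoryTheory CategoryTheory.Limits

namespace Groth.Agent.Helper2.SubPull

variable {C : Type u} [Category.{v} C] [Abelian C] {W E : C} (ι : W ⟶ E) (A : Subobject E)

/-- the composite `W ⟶ E ⟶ E / A` -/
noncomputable abbrev toQuot : W ⟶ cokernel A.arrow := ι ≫ cokernel.π A.arrow

theorem pullback_arrow_comp : ((Subobject.pullback ι).obj A).arrow ≫ toQuot ι A = 0 := by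
  have h := (Subobject.isPullback ι A).w
  rw [toQuot, ← Category.assoc, ← h, Category.assoc, cokernel.condition, comp_zero]

/-- the pullback of `A` along `ι` is the kernel of `W ⟶ E ⟶ E / A` -/
noncomputable def isKernel :
    IsLimit (KernelFork.ofι ((Subobject.pullback ι).obj A).arrow (pullback_arrow_comp ι A)) := by
  have hA : IsLimit (KernelFork.ofι A.arrow (cokernel.condition A.arrow)) :=
    Abelian.monoIsKernelOfCokernel (Cofork.ofπ (cokernel.π A.arrow) (by simp))
      (cokernelIsCokernel A.arrow)
  refine KernelFork.IsLimit.ofι _ _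
    (fun {T} g hg => (Subobject.isPullback ι A).lift
      (KernelFork.IsLimit.lift' hA (g ≫ ι) (by rw [Category.assoc]; exact hg)).1 g
      (KernelFork.IsLimit.lift' hA (g ≫ ι) (by rw [Category.assoc]; exact hg)).2)
    (fun {T} g hg => (Subobject.isPullback ι A).lift_snd _ _ _)
    (fun {T} g hg b hb => ?_)
  rw [← cancel_mono ((Subobject.pullback ι).obj A).arrow, hb]
  exact ((Subobject.isPullback ι A).lift_snd _ _ _).symm

/-- the underlying object of the pullback is the kernel -/
noncomputable def kernelIso : ((Subobject.pullback ι).obj A : C) ≅ kernel (toQuot ι A) where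
  hom := kernel.lift _ ((Subobject.pullback ι).obj A).arrow (pullback_arrow_comp ι A)
  inv := (KernelFork.IsLimit.lift' (isKernel ι A) (kernel.ι (toQuot ι A))
    (kernel.condition _)).1
  hom_inv_id := by
    rw [← cancel_mono ((Subobject.pullback ι).obj A).arrow, Category.assoc]
    have h := (KernelFork.IsLimit.lift' (isKernel ι A) (kernel.ι (toQuot ι A))
      (kernel.condition _)).2
    change _ ≫ ((Subobject.pullback ι).obj A).arrow = _ at h
    rw [h, kernel.lift_ι, Category.id_comp]
  inv_hom_id := by
    rw [← cancel_mono (kernel.ι (toQuot ι A)), Category.assoc, kernel.lift_ι, Category.id_comp]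
    exact (KernelFork.IsLimit.lift' (isKernel ι A) (kernel.ι (toQuot ι A))
      (kernel.condition _)).2

theorem kernelIso_hom_ι : (kernelIso ι A).hom ≫ kernel.ι (toQuot ι A) =
    ((Subobject.pullback ι).obj A).arrow :=
  kernel.lift_ι _ _ _

/-- `W / (W ∩ A) ≅ coim (W ⟶ E / A)` -/
noncomputable def cokernelIso :
    cokernel ((Subobject.pullback ι).obj A).arrow ≅ Abelian.coimage (toQuot ι A) :=
  cokernel.mapIso _ _ (kernelIso ι A) (Iso.refl W) (by
    rw [kernelIso_hom_ι]; simp)

/-- the monomorphism `W / (W ∩ A) ⟶ E / A` -/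
noncomputable def quotMap : cokernel ((Subobject.pullback ι).obj A).arrow ⟶ cokernel A.arrow :=
  (cokernelIso ι A).hom ≫ Abelian.factorThruCoimage (toQuot ι A)

instance : Mono (quotMap ι A) := by
  unfold quotMap
  infer_instance

end Groth.Agent.Helper2.SubPull
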