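import Mathlib
import Groth.Prelude.Def_ParBun
import Groth.Agent.Lib.Helper1.IdealModL
import Groth.Agent.Lib.Helper1.TmulLib
import Groth.Agent.Lib.Helper1.Dv8

/-!
# The support of `E / I·E` (helper2)

The cokernel of the multiplication map `E ⊗ I ⟶ E` is supported in `Supp E ∩ V(I)`.
-/

set_option autoImplicit false
universe u
open CategoryTheory CategoryTheory.Limits AlgebraicGeometry TopologicalSpace Opposite

namespace Groth.Agent.Helper2.TwistSupp

open Groth.Agent.Helper1 Groth.Agent.Helper1.QcCech Groth.Agent.Helper1.TmulLib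
open Groth.Agent.Helper1.Dv

variable {X : Scheme.{u}}

/-- the multiplication map on pure tensors -/
theorem twistMap_app_tm (I : X.IdealSheafData) (E : X.Modules) (U : X.Opens) (s : Γ(E, U))
    (a : Γ(ClSub.idealMod I, U)) (r : Γ(X, U)) (hr : (ClSub.idealModι I).app U a = r) :
    (ParSh.twistMap I E).app U (tm E (ClSub.idealMod I) U s a) = r • s := by
  unfold ParSh.twistMap
  rw [Scheme.Modules.Hom.comp_app, ConcreteCategory.comp_apply]
  have h1 : (KoszTw.tensorMap (𝟙 E) (ClSub.idealModι I)).app U (tm E (ClSub.idealMod I) U s a) =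
      SecTwist.tmul E (Coh.structureModule X) U s ((ClSub.idealModι I).app U a) :=
    KoszTw.tensorMap_tmul (𝟙 E) (ClSub.idealModι I) U s a
  rw [h1, hr]
  exact SecTwist.unitorR_tmul E U s r

/-- outside `V(I)` the multiplication map `E ⊗ I ⟶ E` is surjective on stalks -/
theorem support_cokernel_twistMap_subset (I : X.IdealSheafData) (E : X.Modules) :
    CohB1.support (cokernel (ParSh.twistMap I E)) ⊆ (I.support : Set X) := by
  intro x hx
  by_contra hxI
  refine notMem_support_cokernel (ParSh.twistMap I E) x ?_ hx
  intro a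
  obtain ⟨V, hxV, s, rfl⟩ := TopCat.Presheaf.exists_germ_eq E.presheaf a
  let U : X.Opens := V ⊓ ⟨(I.support : Set X)ᶜ, I.support.isClosed.isOpen_compl⟩
  have hxU : x ∈ U := ⟨hxV, hxI⟩
  have hUV : U ≤ V := inf_le_left
  have hbot : I.subschemeι ⁻¹ᵁ U = ⊥ := by
    ext z
    simp only [Opens.coe_bot, Set.mem_empty_iff_false, iff_false]
    intro hz
    have h1 : I.subschemeι z ∈ (I.support : Set X) := by
      rw [← Scheme.IdealSheafData.range_subschemeι]
      exact ⟨z, rfl⟩
    exact hz.2 h1
  have hsub : Subsingleton Γ(I.subscheme, I.subschemeι ⁻¹ᵁ U) := by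
    rw [hbot]
    infer_instance
  obtain ⟨y, hy⟩ := IdealModL.exists_of_app_eq_zero I U 1 (Subsingleton.elim _ _)
  refine ⟨(CohB1.tensorMod E (ClSub.idealMod I)).presheaf.germ U x hxU
    (tm E (ClSub.idealMod I) U (res E hUV s) y), ?_⟩
  rw [stalkSh_map_germ, twistMap_app_tm I E U (res E hUV s) y 1 hy, one_smul]
  exact TopCat.Presheaf.germ_res_apply E.presheaf (homOfLE hUV) x hxU s

/-- the quotient by the image has support in the support of the cokernel -/
theorem support_cokernel_imageSubobject_subset {M E : X.Modules} (f : M ⟶ E) :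
    CohB1.support (cokernel (imageSubobject f).arrow) ⊆ CohB1.support (cokernel f) := by
  have hfac : factorThruImageSubobject f ≫ (imageSubobject f).arrow = f :=
    imageSubobject_arrow_comp _
  let φ : cokernel f ⟶ cokernel (imageSubobject f).arrow :=
    cokernel.desc _ (cokernel.π _) (by
      have h2 : (factorThruImageSubobject f ≫ (imageSubobject f).arrow) ≫
          cokernel.π (imageSubobject f).arrow = 0 := by
        rw [Category.assoc, cokernel.condition, comp_zero]
      exact (congrArg (fun g => g ≫ cokernel.π (imageSubobject f).arrow) hfac).symm.trans h2)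
  have : Epi φ := by
    have : cokernel.π f ≫ φ = cokernel.π _ := cokernel.π_desc _ _ _
    exact epi_of_epi_fac this
  exact support_epi φ

/-- the support of `E / I·E` lies in `Supp E ∩ V(I)` -/
theorem support_cokernel_twistSub_subset (I : X.IdealSheafData) (E : X.Modules) :
    CohB1.support (cokernel (ParSh.twistSub I E).arrow) ⊆
      CohB1.support E ∩ (I.support : Set X) := by
  refine Set.subset_inter (support_epi (cokernel.π _)) ?_
  exact (support_cokernel_imageSubobject_subset (ParSh.twistMap I E)).trans
    (support_cokernel_twistMap_subset I E)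

end Groth.Agent.Helper2.TwistSupp
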