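import Mathlib
import Groth.Agent.Lib.Helper2.ShStab.TwistSupp
import Groth.Agent.Lib.Helper2.ShStab.SubPull
import Groth.Agent.Lib.Helper2.ShStab.ParPoly
import Groth.Agent.Lib.Helper1.FtLocal

/-!
# Supports and coherence of the quotients of a weighted filtration along a divisor (helper2)
-/

set_option autoImplicit false
universe u
open CategoryTheory CategoryTheory.Limits AlgebraicGeometry Polynomial

namespace Groth.Agent.Helper2.ParSupp

open Groth.Agent.Helper1 Groth.Agent.Helper1.Dv Groth.Agent.Helper1.Euler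
open Groth.Agent.Helper2.HilbBasic Groth.Agent.Helper2 Groth.Agent.Helper2.ParPoly

section General

variable {X : Scheme.{u}}

theorem dim_mono {s t : Set X} (h : s ⊆ t) : topologicalKrullDim s ≤ topologicalKrullDim t :=
  (Topology.IsEmbedding.inclusion h).isInducing.topologicalKrullDim_le

/-- the quotient by a larger subobject has smaller support -/
theorem support_cokernel_anti {E : X.Modules} {A B : Subobject E} (h : A ≤ B) :
    CohB1.support (cokernel B.arrow) ⊆ CohB1.support (cokernel A.arrow) := by
  let φ : cokernel A.arrow ⟶ cokernel B.arrow :=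
    cokernel.desc _ (cokernel.π B.arrow) (by
      rw [← Subobject.ofLE_arrow h, Category.assoc, cokernel.condition, Limits.comp_zero])
  haveI : Epi φ := by
    have : cokernel.π A.arrow ≫ φ = cokernel.π B.arrow := cokernel.π_desc _ _ _
    exact epi_of_epi_fac this
  exact support_epi φ

/-- the supports of the quotients of a filtration along `I` lie in `Supp E ∩ V(I)` -/
theorem support_cokernel_pieceX_subset {E : X.Modules} (𝓔 : ParSh.Str E) (I : X.IdealSheafData)
    (h𝓔 : 𝓔.Along I) (j : Fin (𝓔.l + 2)) :
    CohB1.support (cokernel (𝓔.pieceX j).arrow) ⊆ CohB1.support E ∩ (I.support : Set X) := by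
  refine (support_cokernel_anti (𝓔.bot_le_pieceX j)).trans ?_
  rw [h𝓔]
  exact TwistSupp.support_cokernel_twistSub_subset I E

theorem induced_pieceX {E W : X.Modules} (𝓔 : ParSh.Str E) (ι : W ⟶ E) (j : Fin (𝓔.l + 2)) :
    (𝓔.induced ι).pieceX j = (Subobject.pullback ι).obj (𝓔.pieceX j) := by
  induction j using Fin.lastCases with
  | last =>
    rw [ParSh.Str.pieceX_last]
    exact (𝓔.induced ι).pieceX_last
  | cast j =>
    rw [ParSh.Str.pieceX_castSucc]
    exact (𝓔.induced ι).pieceX_castSucc j

/-- the quotients of the induced filtration on a submodule embed in those of the filtration -/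
theorem support_cokernel_induced_subset {E W : X.Modules} (𝓔 : ParSh.Str E) (ι : W ⟶ E)
    (j : Fin (𝓔.l + 2)) :
    CohB1.support (cokernel ((𝓔.induced ι).pieceX j).arrow) ⊆
      CohB1.support (cokernel (𝓔.pieceX j).arrow) := by
  have h : ∀ (B : Subobject W), B = (Subobject.pullback ι).obj (𝓔.pieceX j) →
      CohB1.support (cokernel B.arrow) ⊆ CohB1.support (cokernel (𝓔.pieceX j).arrow) := by
    rintro B rfl
    exact support_mono (SubPull.quotMap ι (𝓔.pieceX j))
  exact h _ (induced_pieceX 𝓔 ι j)

/-- the pieces of the induced filtration on a coherent submodule are coherent (`X` locally Noetherian) -/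
theorem isCoh_induced_pieceX [IsLocallyNoetherian X] {E W : X.Modules} (𝓔 : ParSh.Str E)
    (ι : W ⟶ E) (hE : Coh.IsCoh E) (hW : Coh.IsCoh W)
    (hcoh : ∀ j, Coh.IsCoh ((𝓔.pieceX j : Subobject E) : X.Modules)) (j : Fin (𝓔.l + 2)) :
    Coh.IsCoh (((𝓔.induced ι).pieceX j : Subobject W) : X.Modules) := by
  have h : ∀ (B : Subobject W), B = (Subobject.pullback ι).obj (𝓔.pieceX j) →
      Coh.IsCoh (B : X.Modules) := by
    rintro B rfl
    haveI := hW.1
    haveI : (cokernel (𝓔.pieceX j).arrow).IsQuasicoherent :=
      (isCoh_cokernel _ (hcoh j) hE).1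
    haveI : (kernel (SubPull.toQuot ι (𝓔.pieceX j))).IsQuasicoherent :=
      QcAbel.isQuasicoherent_kernel _
    have hq : Coh.IsQCoh (((Subobject.pullback ι).obj (𝓔.pieceX j) : Subobject W) : X.Modules) :=
      QcAbel.isQuasicoherent_of_iso (SubPull.kernelIso ι (𝓔.pieceX j)).symm
    exact FtLocal.isCoh_of_mono ((Subobject.pullback ι).obj (𝓔.pieceX j)).arrow hW hq
  exact h _ (induced_pieceX 𝓔 ι j)

end General

end Groth.Agent.Helper2.ParSupp
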