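import Mathlib
import Groth.Agent.Lib.Helper2.ShStab.ParSupp

/-!
# Coefficients of the parabolic Hilbert polynomial (helper2)
-/

set_option autoImplicit false
universe u
open CategoryTheory CategoryTheory.Limits AlgebraicGeometry Polynomial

namespace Groth.Agent.Helper2.ParCoeff

open Groth.Agent.Helper1 Groth.Agent.Helper1.Dv Groth.Agent.Helper1.Euler
open Groth.Agent.Helper2.HilbBasic Groth.Agent.Helper2 Groth.Agent.Helper2.ParPoly
open Groth.Agent.Helper2.ParSupp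

variable (k : Type u) [Field k] (X : Scheme.{u}) [X.Over (Spec (CommRingCat.of k))]
  [IsProper (X ↘ (Spec (CommRingCat.of k)))]

/-- the Hilbert polynomials of the quotients `E / E_j` of a filtration along `I` have no coefficients in
degrees `≥ d` when `dim (Supp E ∩ V(I)) < d` -/
theorem coeff_quot_eq_zero {L E : X.Modules} (hL : PicF.IsInvertible L) (hE : Coh.IsCoh E)
    (𝓔 : ParSh.Str E) (I : X.IdealSheafData) (h𝓔 : 𝓔.Along I)
    (hcoh : ∀ j, Coh.IsCoh ((𝓔.pieceX j : Subobject E) : X.Modules)) (d : ℕ)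
    (hsupp : topologicalKrullDim ↥(CohB1.support E ∩ (I.support : Set X)) < (d : WithBot ℕ∞))
    (j : Fin (𝓔.l + 2)) {H : ℚ[X]}
    (hH : ShStab.IsHilbPoly k X L (cokernel (𝓔.pieceX j).arrow) H) (n : ℕ) (hn : d ≤ n) :
    H.coeff n = 0 :=
  HilbPoly.coeff_eq_zero_of_dim_lt k X hL (isCoh_cokernel _ (hcoh j) hE) d
    (lt_of_le_of_lt (dim_mono (support_cokernel_pieceX_subset 𝓔 I h𝓔 j)) hsupp) hH n hn

/-- the same for the induced filtration on a coherent submodule -/
theorem coeff_quot_induced_eq_zero {L E W : X.Modules} (hL : PicF.IsInvertible L) (hE : Coh.IsCoh E)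
    (𝓔 : ParSh.Str E) (I : X.IdealSheafData) (h𝓔 : 𝓔.Along I)
    (hcoh : ∀ j, Coh.IsCoh ((𝓔.pieceX j : Subobject E) : X.Modules)) (d : ℕ)
    (hsupp : topologicalKrullDim ↥(CohB1.support E ∩ (I.support : Set X)) < (d : WithBot ℕ∞))
    (ι : W ⟶ E) (hW : Coh.IsCoh W)
    (j : Fin (𝓔.l + 2)) {H : ℚ[X]}
    (hH : ShStab.IsHilbPoly k X L (cokernel ((𝓔.induced ι).pieceX j).arrow) H) (n : ℕ)
    (hn : d ≤ n) : H.coeff n = 0 := by
  haveI : IsNoetherian X := isNoetherian_of_proper k X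
  exact HilbPoly.coeff_eq_zero_of_dim_lt k X hL
    (isCoh_cokernel _ (isCoh_induced_pieceX 𝓔 ι hE hW hcoh j) hW) d
    (lt_of_le_of_lt (dim_mono ((support_cokernel_induced_subset 𝓔 ι j).trans
      (support_cokernel_pieceX_subset 𝓔 I h𝓔 j))) hsupp) hH n hn

/-- coefficients of the parabolic polynomial in the degrees where the quotients do not contribute -/
theorem parPoly_coeff_eq {L M : X.Modules} (hL : PicF.IsInvertible L) (hM : Coh.IsCoh M)
    (𝓢 : ParSh.Str M) (hcoh : ∀ j, Coh.IsCoh ((𝓢.pieceX j : Subobject M) : X.Modules))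
    {P : ℚ[X]} (hP : ShStab.IsHilbPoly k X L M P) (PX : Fin (𝓢.l + 2) → ℚ[X])
    (hPX : ∀ j, ShStab.IsHilbPoly k X L ((𝓢.pieceX j : Subobject M) : X.Modules) (PX j))
    (n : ℕ) (hvan : ∀ (j : Fin (𝓢.l + 2)) (H : ℚ[X]),
      ShStab.IsHilbPoly k X L (cokernel (𝓢.pieceX j).arrow) H → H.coeff n = 0) :
    (W4swparbununimod.parPoly 𝓢 PX).coeff n = (W4swparbununimod.rpoly P).coeff n := by
  have hH : ∀ j, ShStab.IsHilbPoly k X L (cokernel (𝓢.pieceX j).arrow) (P - PX j) := fun j =>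
    isHilbPoly_quot_sub k X hL hM _ (hcoh j) hP (hPX j)
  rw [parPoly_eq_sub 𝓢 P PX (fun j => P - PX j) (PX_zero_eq k X 𝓢 hP (hPX 0))
    (fun j => by ring)]
  rw [Polynomial.coeff_sub, Polynomial.finset_sum_coeff]
  have : ∀ j : Fin (𝓢.l + 1), (Polynomial.C (𝓢.wtX j.succ - 𝓢.wtX j.castSucc) *
      W4swparbununimod.rpoly (P - PX j.succ)).coeff n = 0 := by
    intro j
    rw [Polynomial.coeff_C_mul, Polynomial.coeff_map, hvan j.succ _ (hH j.succ)]
    simp
  rw [Finset.sum_congr rfl (fun j _ => this j)]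
  simp

end Groth.Agent.Helper2.ParCoeff
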