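import Mathlib

/-!
# A subobject of the middle term of a short exact sequence: `0 → F ∩ A → A → im(A → G) → 0` (helper2)
-/

set_option autoImplicit false
universe v u
open CategoryTheory CategoryTheory.Limits

namespace Groth.Agent.Helper2.SubExt

variable {C : Type u} [Category.{v} C] [Abelian C] {F E G : C} (i : F ⟶ E) (p : E ⟶ G)
  (A : Subobject E)

theorem pullbackπ_comp (w : i ≫ p = 0) :
    Subobject.pullbackπ i A ≫ factorThruImageSubobject (A.arrow ≫ p) = 0 := by
  rw [← cancel_mono (imageSubobject (A.arrow ≫ p)).arrow, Category.assoc,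
    imageSubobject_arrow_comp, zero_comp, ← Category.assoc, (Subobject.isPullback i A).w,
    Category.assoc, w, comp_zero]

/-- the short complex `F ∩ A → A → im(A → G)` -/
noncomputable def sc (w : i ≫ p = 0) : ShortComplex C :=
  ShortComplex.mk (Subobject.pullbackπ i A) (factorThruImageSubobject (A.arrow ≫ p))
    (pullbackπ_comp i p A w)

/-- `F ∩ A → A` is the kernel of `A → im(A → G)` -/
noncomputable def isKernel (w : i ≫ p = 0) (hi : IsLimit (KernelFork.ofι i w)) [Mono i] :
    IsLimit (KernelFork.ofι (Subobject.pullbackπ i A) (pullbackπ_comp i p A w)) := by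
  have key : ∀ {T : C} (g : T ⟶ (A : C)), g ≫ factorThruImageSubobject (A.arrow ≫ p) = 0 →
      (g ≫ A.arrow) ≫ p = 0 := by
    intro T g hg
    have h1 : (g ≫ factorThruImageSubobject (A.arrow ≫ p)) ≫
        (imageSubobject (A.arrow ≫ p)).arrow = 0 := by rw [hg, zero_comp]
    rw [Category.assoc, imageSubobject_arrow_comp] at h1
    rw [Category.assoc]
    exact h1
  have hm : Mono (Subobject.pullbackπ i A) := (Subobject.isPullback i A).mono_fst_of_mono
  refine KernelFork.IsLimit.ofι _ _
    (fun {T} (g : T ⟶ (A : C)) hg => (Subobject.isPullback i A).lift g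
      (KernelFork.IsLimit.lift' hi (g ≫ A.arrow) (key g hg)).1
      ((KernelFork.IsLimit.lift' hi (g ≫ A.arrow) (key g hg)).2).symm)
    (fun {T} g hg => (Subobject.isPullback i A).lift_fst _ _ _)
    (fun {T} g hg b hb => ?_)
  rw [← cancel_mono (Subobject.pullbackπ i A), hb]
  exact ((Subobject.isPullback i A).lift_fst _ _ _).symm

theorem sc_shortExact (w : i ≫ p = 0) (hS : (ShortComplex.mk i p w).ShortExact) :
    (sc i p A w).ShortExact := by
  have : Mono i := hS.mono_f
  have hi : IsLimit (KernelFork.ofι i w) := hS.fIsKernel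
  have : Mono (sc i p A w).f := by
    change Mono (Subobject.pullbackπ i A)
    exact (Subobject.isPullback i A).mono_fst_of_mono
  have : Epi (sc i p A w).g := by
    change Epi (factorThruImageSubobject (A.arrow ≫ p))
    infer_instance
  exact { exact := ShortComplex.exact_of_f_is_kernel _ (isKernel i p A w hi) }

end Groth.Agent.Helper2.SubExt
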