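import Mathlib
import Groth.Agent.Lib.Helper2.ShStab.SubExt
import Groth.Agent.Lib.Helper2.ShStab.ParSupp

/-!
# Additivity of the parabolic Hilbert function in parabolic extensions (helper2)
-/

set_option autoImplicit false
universe u
open CategoryTheory CategoryTheory.Limits AlgebraicGeometry Polynomial

namespace Groth.Agent.Helper2.ParExt

open Groth.Agent.Helper1 Groth.Agent.Helper1.Dv Groth.Agent.Helper1.Euler
open Groth.Agent.Helper2.HilbBasic Groth.Agent.Helper2 Groth.Agent.Helper2.ParPoly
open Groth.Agent.Helper2.ParSupp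

section General

variable {X : Scheme.{u}}

theorem coinduced_pieceX {E G : X.Modules} (𝓔 : ParSh.Str E) (p : E ⟶ G) [Epi p]
    (j : Fin (𝓔.l + 2)) :
    (𝓔.coinduced p).pieceX j = imageSubobject ((𝓔.pieceX j).arrow ≫ p) := by
  induction j using Fin.lastCases with
  | last =>
    rw [ParSh.Str.pieceX_last]
    exact (𝓔.coinduced p).pieceX_last
  | cast j =>
    rw [ParSh.Str.pieceX_castSucc]
    exact (𝓔.coinduced p).pieceX_castSucc j

/-- the kernel iso `F ∩ A ≅ ker(A → G)` -/
noncomputable def pullbackKernelIso {F E G : X.Modules} (i : F ⟶ E) (p : E ⟶ G) (w : i ≫ p = 0)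
    (hS : (ShortComplex.mk i p w).ShortExact) (A : Subobject E) :
    (((Subobject.pullback i).obj A : Subobject F) : X.Modules) ≅
      kernel (factorThruImageSubobject (A.arrow ≫ p)) :=
  haveI : Mono i := hS.mono_f
  { hom := kernel.lift _ (Subobject.pullbackπ i A) (SubExt.pullbackπ_comp i p A w)
    inv := (KernelFork.IsLimit.lift' (SubExt.isKernel i p A w hS.fIsKernel) (kernel.ι _)
      (kernel.condition _)).1
    hom_inv_id := by
      haveI : Mono (Subobject.pullbackπ i A) := (Subobject.isPullback i A).mono_fst_of_mono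
      rw [← cancel_mono (Subobject.pullbackπ i A), Category.assoc]
      have h := (KernelFork.IsLimit.lift' (SubExt.isKernel i p A w hS.fIsKernel) (kernel.ι _)
        (kernel.condition _)).2
      change _ ≫ Subobject.pullbackπ i A = _ at h
      rw [h, kernel.lift_ι, Category.id_comp]
    inv_hom_id := by
      rw [← cancel_mono (kernel.ι (factorThruImageSubobject (A.arrow ≫ p))), Category.assoc,
        kernel.lift_ι, Category.id_comp]
      exact (KernelFork.IsLimit.lift' (SubExt.isKernel i p A w hS.fIsKernel) (kernel.ι _)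
        (kernel.condition _)).2 }

theorem parSum_add_aux (n : ℕ) (w : Fin (n + 1) → ℝ) (xb yb zb : ℝ)
    (x x' y y' z z' : Fin (n + 1) → ℝ) (hb : xb + yb = zb) (h : ∀ j, x j + y j = z j)
    (h' : ∀ j, x' j + y' j = z' j) :
    (xb + ∑ j, w j * (x j - x' j)) + (yb + ∑ j, w j * (y j - y' j)) =
      zb + ∑ j, w j * (z j - z' j) := by
  have : ∀ j, w j * (z j - z' j) = w j * (x j - x' j) + w j * (y j - y' j) := by
    intro j
    rw [← h j, ← h' j]
    ring
  rw [Finset.sum_congr rfl (fun j _ => this j), Finset.sum_add_distrib, ← hb]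
  ring

end General

section Field

variable (k : Type u) [Field k] (X : Scheme.{u}) [X.Over (Spec (CommRingCat.of k))]
  [IsProper (X ↘ (Spec (CommRingCat.of k)))]

/-- `χ((F ∩ A)(m)) + χ(im(A → G)(m)) = χ(A(m))` -/
theorem euler_sub_image {L : X.Modules} (hL : PicF.IsInvertible L) {F E G : X.Modules}
    (i : F ⟶ E) (p : E ⟶ G) (w : i ≫ p = 0) (hS : (ShortComplex.mk i p w).ShortExact)
    (hG : Coh.IsCoh G) (A : Subobject E) (hA : Coh.IsCoh (A : X.Modules)) (m : ℕ) :
    (Curv2.euler k X (ShStab.twist X L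
        (((Subobject.pullback i).obj A : Subobject F) : X.Modules) m) : ℝ) +
      (Curv2.euler k X (ShStab.twist X L
        ((imageSubobject (A.arrow ≫ p) : Subobject G) : X.Modules) m) : ℝ) =
      (Curv2.euler k X (ShStab.twist X L (A : X.Modules) m) : ℝ) := by
  haveI : IsNoetherian X := isNoetherian_of_proper k X
  have hSE := SubExt.sc_shortExact i p A w hS
  haveI := hA.1
  haveI := hG.1
  -- quasi-coherence of the image, as a subobject of `G`... via the kernel
  haveI hIq : ((imageSubobject (A.arrow ≫ p) : Subobject G) : X.Modules).IsQuasicoherent := by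
    have e1 : ((imageSubobject (A.arrow ≫ p) : Subobject G) : X.Modules) ≅
        Abelian.image (A.arrow ≫ p) :=
      imageSubobjectIso (A.arrow ≫ p) ≪≫ (Abelian.imageIsoImage (A.arrow ≫ p)).symm
    haveI := QcAbel.isQuasicoherent_image (A.arrow ≫ p)
    exact QcAbel.isQuasicoherent_of_iso e1.symm
  haveI hKq : (kernel (factorThruImageSubobject (A.arrow ≫ p))).IsQuasicoherent :=
    QcAbel.isQuasicoherent_kernel _
  have hPq : Coh.IsQCoh (((Subobject.pullback i).obj A : Subobject F) : X.Modules) :=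
    QcAbel.isQuasicoherent_of_iso (pullbackKernelIso i p w hS A).symm
  haveI : Mono (Subobject.pullbackπ i A) := hSE.mono_f
  haveI : Epi (factorThruImageSubobject (A.arrow ≫ p)) := hSE.epi_g
  have h₁ : Coh.IsCoh (((Subobject.pullback i).obj A : Subobject F) : X.Modules) :=
    FtLocal.isCoh_of_mono (Subobject.pullbackπ i A) hA hPq
  have h₃ : Coh.IsCoh ((imageSubobject (A.arrow ≫ p) : Subobject G) : X.Modules) :=
    Groth.Agent.Lib.Helper4.LimTopInj.isCoh_of_epi (factorThruImageSubobject (A.arrow ≫ p)) hA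
  have h := euler_twist_additive k X hL (SubExt.sc i p A w) hSE h₁ hA h₃ m
  change Curv2.euler k X (ShStab.twist X L (A : X.Modules) m) =
    Curv2.euler k X (ShStab.twist X L (((Subobject.pullback i).obj A : Subobject F) : X.Modules) m) +
    Curv2.euler k X (ShStab.twist X L
      ((imageSubobject (A.arrow ≫ p) : Subobject G) : X.Modules) m) at h
  rw [h]
  push_cast
  rfl

/-- additivity of the parabolic Hilbert function in a parabolic extension -/
theorem parHilb_add {L : X.Modules} (hL : PicF.IsInvertible L) {F E G : X.Modules}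
    (hG : Coh.IsCoh G) (i : F ⟶ E) (p : E ⟶ G) [Epi p] (𝓕 : ParSh.Str F) (𝓔 : ParSh.Str E)
    (𝓖 : ParSh.Str G) (hext : ParSh.IsParExt i p 𝓕 𝓔 𝓖)
    (hcoh : ∀ j, Coh.IsCoh ((𝓔.piece j : Subobject E) : X.Modules))
    (hbot : Coh.IsCoh ((𝓔.bot : Subobject E) : X.Modules)) (m : ℕ) :
    𝓕.parHilb k X L m + 𝓖.parHilb k X L m = 𝓔.parHilb k X L m := by
  obtain ⟨w, hS, rfl, rfl⟩ := hext
  have hcohX : ∀ j, Coh.IsCoh ((𝓔.pieceX j : Subobject E) : X.Modules) := by
    intro j
    induction j using Fin.lastCases with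
    | last => rw [ParSh.Str.pieceX_last]; exact hbot
    | cast j => rw [ParSh.Str.pieceX_castSucc]; exact hcoh j
  have key := fun (A : Subobject E) (hA : Coh.IsCoh (A : X.Modules)) =>
    euler_sub_image k X hL i p w hS hG A hA m
  have hb := key 𝓔.bot hbot
  have hp := fun j => key (𝓔.piece j) (hcoh j)
  have hpx := fun j : Fin (𝓔.l + 1) => key (𝓔.pieceX j.succ) (hcohX j.succ)
  have e1 : ∀ j : Fin (𝓔.l + 1), (𝓔.induced i).pieceX j.succ =
      (Subobject.pullback i).obj (𝓔.pieceX j.succ) := fun j => induced_pieceX 𝓔 i j.succ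
  have e2 : ∀ j : Fin (𝓔.l + 1), (𝓔.coinduced p).pieceX j.succ =
      imageSubobject ((𝓔.pieceX j.succ).arrow ≫ p) := fun j => coinduced_pieceX 𝓔 p j.succ
  have hpx' : ∀ j : Fin (𝓔.l + 1),
      (Curv2.euler k X (ShStab.twist X L
          (((𝓔.induced i).pieceX j.succ : Subobject F) : X.Modules) m) : ℝ) +
        (Curv2.euler k X (ShStab.twist X L
          (((𝓔.coinduced p).pieceX j.succ : Subobject G) : X.Modules) m) : ℝ) =
      (Curv2.euler k X (ShStab.twist X L ((𝓔.pieceX j.succ : Subobject E) : X.Modules) m) : ℝ) := by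
    intro j
    rw [e1 j, e2 j]
    exact hpx j
  exact parSum_add_aux 𝓔.l 𝓔.wt _ _ _
    (fun j => (Curv2.euler k X (ShStab.twist X L
      (((𝓔.induced i).piece j : Subobject F) : X.Modules) m) : ℝ))
    (fun j => (Curv2.euler k X (ShStab.twist X L
      (((𝓔.induced i).pieceX j.succ : Subobject F) : X.Modules) m) : ℝ))
    (fun j => (Curv2.euler k X (ShStab.twist X L
      (((𝓔.coinduced p).piece j : Subobject G) : X.Modules) m) : ℝ))
    (fun j => (Curv2.euler k X (ShStab.twist X L
      (((𝓔.coinduced p).pieceX j.succ : Subobject G) : X.Modules) m) : ℝ))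
    (fun j => (Curv2.euler k X (ShStab.twist X L ((𝓔.piece j : Subobject E) : X.Modules) m) : ℝ))
    (fun j => (Curv2.euler k X (ShStab.twist X L
      ((𝓔.pieceX j.succ : Subobject E) : X.Modules) m) : ℝ))
    hb hp hpx'

end Field

end Groth.Agent.Helper2.ParExt
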