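import Mathlib
import Groth.Agent.Lib.Helper2.ShStab.ParCoeff

/-!
# Leading coefficients of parabolic Hilbert polynomials (helper2)
-/

set_option autoImplicit false
universe u
open CategoryTheory CategoryTheory.Limits AlgebraicGeometry Polynomial

namespace Groth.Agent.Helper2.ParMain

open Groth.Agent.Helper1 Groth.Agent.Helper1.Dv Groth.Agent.Helper1.Euler
open Groth.Agent.Helper2.HilbBasic Groth.Agent.Helper2 Groth.Agent.Helper2.ParPoly
open Groth.Agent.Helper2.ParSupp Groth.Agent.Helper2.ParCoeff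

variable (k : Type u) [Field k] (X : Scheme.{u}) [X.Over (Spec (CommRingCat.of k))]
  [IsProper (X ↘ (Spec (CommRingCat.of k)))]

/-- the short exact sequence `0 → A → B → B/A → 0` of two nested subobjects -/
noncomputable def leSC {E : X.Modules} {A B : Subobject E} (h : A ≤ B) : ShortComplex X.Modules :=
  ShortComplex.mk (Subobject.ofLE A B h) (cokernel.π _) (cokernel.condition _)

theorem leSC_shortExact {E : X.Modules} {A B : Subobject E} (h : A ≤ B) :
    (leSC X h).ShortExact := by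
  have : Mono (leSC X h).f := inferInstanceAs (Mono (Subobject.ofLE A B h))
  have : Epi (leSC X h).g := inferInstanceAs (Epi (cokernel.π (Subobject.ofLE A B h)))
  exact { exact := ShortComplex.exact_cokernel _ }

/-- `P_B − P_A` is the Hilbert polynomial of the coherent module `B / A` -/
theorem isHilbPoly_le_sub {L E : X.Modules} (hL : PicF.IsInvertible L) {A B : Subobject E}
    (h : A ≤ B) (hA : Coh.IsCoh (A : X.Modules)) (hB : Coh.IsCoh (B : X.Modules)) {PA PB : ℚ[X]}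
    (hPA : ShStab.IsHilbPoly k X L (A : X.Modules) PA)
    (hPB : ShStab.IsHilbPoly k X L (B : X.Modules) PB) :
    ShStab.IsHilbPoly k X L (cokernel (Subobject.ofLE A B h)) (PB - PA) := fun m => by
  have h1 := euler_twist_additive k X hL (leSC X h) (leSC_shortExact X h) hA hB
    (isCoh_cokernel _ hA hB) m
  change Curv2.euler k X (ShStab.twist X L (B : X.Modules) m) =
    Curv2.euler k X (ShStab.twist X L (A : X.Modules) m) +
      Curv2.euler k X (ShStab.twist X L (cokernel (Subobject.ofLE A B h)) m) at h1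
  rw [Polynomial.eval_sub, ← hPA m, ← hPB m, h1]
  push_cast
  ring

section Along

variable {L E : X.Modules} (hL : CohB1.IsAmple L) (I : X.IdealSheafData)
  (hE : Coh.IsCoh E) (𝓔 : ParSh.Str E) (h𝓔 : 𝓔.Along I)
  (hcoh : ∀ j, Coh.IsCoh ((𝓔.pieceX j : Subobject E) : X.Modules)) (d : ℕ)
  (hsupp : topologicalKrullDim ↥(CohB1.support E ∩ (I.support : Set X)) < (d : WithBot ℕ∞))
  {P : ℚ[X]} (hP : ShStab.IsHilbPoly k X L E P) (PX : Fin (𝓔.l + 2) → ℚ[X])
  (hPX : ∀ j, ShStab.IsHilbPoly k X L ((𝓔.pieceX j : Subobject E) : X.Modules) (PX j))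

include hL hE h𝓔 hcoh hsupp hP hPX

/-- S18525 -/
theorem coeff_parPoly_eq (n : ℕ) (hn : d ≤ n) :
    (W4swparbununimod.parPoly 𝓔 PX).coeff n = (W4swparbununimod.rpoly P).coeff n :=
  parPoly_coeff_eq k X hL.1 hE 𝓔 hcoh hP PX hPX n
    (fun j _ hH => coeff_quot_eq_zero k X hL.1 hE 𝓔 I h𝓔 hcoh d hsupp j hH n hn)

/-- S18527 -/
theorem coeff_pred_bounds (hd : 1 ≤ d) :
    (W4swparbununimod.rpoly (PX (Fin.last (𝓔.l + 1)))).coeff (d - 1) ≤
        (W4swparbununimod.parPoly 𝓔 PX).coeff (d - 1) ∧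
      (W4swparbununimod.parPoly 𝓔 PX).coeff (d - 1) ≤ (W4swparbununimod.rpoly P).coeff (d - 1) := by
  have hLi := hL.1
  have hH : ∀ j, ShStab.IsHilbPoly k X L (cokernel (𝓔.pieceX j).arrow) (P - PX j) := fun j =>
    isHilbPoly_quot_sub k X hLi hE _ (hcoh j) hP (hPX j)
  have hvan : ∀ j n, d ≤ n → (P - PX j).coeff n = 0 := fun j n hn =>
    coeff_quot_eq_zero k X hLi hE 𝓔 I h𝓔 hcoh d hsupp j (hH j) n hn
  have hdeg : ∀ j, (P - PX j).natDegree ≤ d - 1 := by
    intro j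
    rw [Polynomial.natDegree_le_iff_coeff_eq_zero]
    intro N hN
    exact hvan j N (by omega)
  have hnn : ∀ j, 0 ≤ (P - PX j).coeff (d - 1) := fun j =>
    HilbPoly.coeff_nonneg k X hL (isCoh_cokernel _ (hcoh j) hE) (hH j) (d - 1) (hdeg j)
  have hle : ∀ j, (P - PX j).coeff (d - 1) ≤ (P - PX (Fin.last (𝓔.l + 1))).coeff (d - 1) := by
    intro j
    have hbj : 𝓔.pieceX (Fin.last (𝓔.l + 1)) ≤ 𝓔.pieceX j := by
      rw [ParSh.Str.pieceX_last]
      exact 𝓔.bot_le_pieceX j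
    have hC := isHilbPoly_le_sub k X hLi hbj (hcoh _) (hcoh j) (hPX _) (hPX j)
    have hCdeg : (PX j - PX (Fin.last (𝓔.l + 1))).natDegree ≤ d - 1 := by
      have : PX j - PX (Fin.last (𝓔.l + 1)) = (P - PX (Fin.last (𝓔.l + 1))) - (P - PX j) := by ring
      rw [this]
      exact (Polynomial.natDegree_sub_le _ _).trans (max_le (hdeg _) (hdeg j))
    have h0 := HilbPoly.coeff_nonneg k X hL (isCoh_cokernel _ (hcoh _) (hcoh j)) hC (d - 1) hCdeg
    rw [Polynomial.coeff_sub] at h0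
    rw [Polynomial.coeff_sub, Polynomial.coeff_sub]
    linarith
  rw [parPoly_eq_sub 𝓔 P PX (fun j => P - PX j) (PX_zero_eq k X 𝓔 hP (hPX 0))
    (fun j => by ring)]
  rw [Polynomial.coeff_sub, Polynomial.finset_sum_coeff]
  have hterm : ∀ j : Fin (𝓔.l + 1), (Polynomial.C (𝓔.wtX j.succ - 𝓔.wtX j.castSucc) *
      W4swparbununimod.rpoly (P - PX j.succ)).coeff (d - 1) =
      (𝓔.wtX j.succ - 𝓔.wtX j.castSucc) * (((P - PX j.succ).coeff (d - 1) : ℚ) : ℝ) := by
    intro j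
    rw [Polynomial.coeff_C_mul, Polynomial.coeff_map]
    rfl
  rw [Finset.sum_congr rfl (fun j _ => hterm j)]
  have hδ : ∀ j : Fin (𝓔.l + 1), 0 ≤ 𝓔.wtX j.succ - 𝓔.wtX j.castSucc := fun j =>
    sub_nonneg.2 (wtX_castSucc_lt_succ 𝓔 j).le
  have hlast : (((P - PX (Fin.last (𝓔.l + 1))).coeff (d - 1) : ℚ) : ℝ) =
      (W4swparbununimod.rpoly P).coeff (d - 1) -
        (W4swparbununimod.rpoly (PX (Fin.last (𝓔.l + 1)))).coeff (d - 1) := by
    rw [Polynomial.coeff_map, Polynomial.coeff_map, Polynomial.coeff_sub]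
    push_cast
    rfl
  constructor
  · -- lower bound
    have h1 : ∑ j : Fin (𝓔.l + 1), (𝓔.wtX j.succ - 𝓔.wtX j.castSucc) *
        (((P - PX j.succ).coeff (d - 1) : ℚ) : ℝ) ≤
        ∑ j : Fin (𝓔.l + 1), (𝓔.wtX j.succ - 𝓔.wtX j.castSucc) *
          (((P - PX (Fin.last (𝓔.l + 1))).coeff (d - 1) : ℚ) : ℝ) := by
      refine Finset.sum_le_sum fun j _ => mul_le_mul_of_nonneg_left ?_ (hδ j)
      exact_mod_cast hle j.succ
    rw [← Finset.sum_mul, sum_wtX_diff] at h1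
    have h2 : (0 : ℝ) ≤ (((P - PX (Fin.last (𝓔.l + 1))).coeff (d - 1) : ℚ) : ℝ) := by
      exact_mod_cast hnn _
    have h3 : (1 - 𝓔.wt 0) * (((P - PX (Fin.last (𝓔.l + 1))).coeff (d - 1) : ℚ) : ℝ) ≤
        (((P - PX (Fin.last (𝓔.l + 1))).coeff (d - 1) : ℚ) : ℝ) := by
      have := mul_le_mul_of_nonneg_right (sub_le_self (1 : ℝ) 𝓔.wt_nonneg) h2
      rwa [one_mul] at this
    rw [hlast] at h1 h3
    linarith
  · -- upper bound
    have h1 : 0 ≤ ∑ j : Fin (𝓔.l + 1), (𝓔.wtX j.succ - 𝓔.wtX j.castSucc) *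
        (((P - PX j.succ).coeff (d - 1) : ℚ) : ℝ) := by
      refine Finset.sum_nonneg fun j _ => mul_nonneg (hδ j) ?_
      exact_mod_cast hnn j.succ
    linarith

end Along

end Groth.Agent.Helper2.ParMain
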