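import Mathlib
import Groth.Agent.Lib.Helper2.ShStab.PolyAsymp

/-!
# Cross-multiplied comparison of two polynomials with proportional leading coefficients (helper2)
-/

set_option autoImplicit false

namespace Groth.Agent.Helper2.PolyAsymp

open Polynomial Filter Topology Finset

theorem cross_compare (A B : ℝ[X]) (a b : ℝ) (d : ℕ) (hd : 1 ≤ d) (hA : A.natDegree ≤ d)
    (hB : B.natDegree ≤ d) (hcoef : A.coeff d * a = B.coeff d * b) :
    ((∃ M : ℕ, ∀ m : ℕ, M ≤ m → A.eval (m : ℝ) * a ≤ B.eval (m : ℝ) * b) →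
        A.coeff (d - 1) * a ≤ B.coeff (d - 1) * b) ∧
      (A.coeff (d - 1) * a < B.coeff (d - 1) * b →
        ∃ M : ℕ, ∀ m : ℕ, M ≤ m → A.eval (m : ℝ) * a < B.eval (m : ℝ) * b) := by
  set D : ℝ[X] := A * C a - B * C b with hD
  have hDd : D.natDegree ≤ d := by
    refine (natDegree_sub_le _ _).trans (max_le ?_ ?_)
    · exact (natDegree_mul_C_le _ _).trans hA
    · exact (natDegree_mul_C_le _ _).trans hB
  have hDcoeff : ∀ n, D.coeff n = A.coeff n * a - B.coeff n * b := by
    intro n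
    rw [hD, coeff_sub, coeff_mul_C, coeff_mul_C]
  have hDdeg : D.natDegree ≤ d - 1 := by
    rw [natDegree_le_iff_coeff_eq_zero]
    intro N hN
    by_cases hNd : N = d
    · rw [hNd, hDcoeff, hcoef, sub_self]
    · exact coeff_eq_zero_of_natDegree_lt (lt_of_le_of_lt hDd (by omega))
  have hDeval : ∀ m : ℕ, D.eval (m : ℝ) = A.eval (m : ℝ) * a - B.eval (m : ℝ) * b := by
    intro m
    rw [hD, eval_sub, eval_mul, eval_mul, eval_C, eval_C]
  constructor
  · rintro ⟨M, hM⟩
    have := coeff_nonpos_of_eventually_nonpos D (d - 1) hDdeg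
      ⟨M, fun m hm => by rw [hDeval]; exact sub_nonpos.2 (hM m hm)⟩
    rw [hDcoeff] at this
    exact sub_nonpos.1 this
  · intro h
    have hneg : D.coeff (d - 1) < 0 := by
      rw [hDcoeff]
      exact sub_neg.2 h
    obtain ⟨M, hM⟩ := eventually_neg_of_coeff_neg D (d - 1) hDdeg hneg
    refine ⟨M, fun m hm => ?_⟩
    have := hM m hm
    rw [hDeval] at this
    exact sub_neg.1 this

end Groth.Agent.Helper2.PolyAsymp
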