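import Mathlib
import Groth.Agent.Lib.Helper2.ShStab.ParMain
import Groth.Agent.Lib.Helper2.ShStab.PolyCross

/-!
# Parabolic Hilbert polynomials of induced filtrations (helper2): S18528, S18530
-/

set_option autoImplicit false
universe u
open CategoryTheory CategoryTheory.Limits AlgebraicGeometry Polynomial

namespace Groth.Agent.Helper2.ParMain

open Groth.Agent.Helper1 Groth.Agent.Helper1.Dv Groth.Agent.Helper1.Euler
open Groth.Agent.Helper2.HilbBasic Groth.Agent.Helper2 Groth.Agent.Helper2.ParPoly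
open Groth.Agent.Helper2.ParSupp Groth.Agent.Helper2.ParCoeff

variable (k : Type u) [Field k] (X : Scheme.{u}) [X.Over (Spec (CommRingCat.of k))]
  [IsProper (X ↘ (Spec (CommRingCat.of k)))]

section Along

variable {L E : X.Modules} (hL : CohB1.IsAmple L) (I : X.IdealSheafData)
  (hE : Coh.IsCoh E) (𝓔 : ParSh.Str E) (h𝓔 : 𝓔.Along I)
  (hcoh : ∀ j, Coh.IsCoh ((𝓔.pieceX j : Subobject E) : X.Modules)) (d : ℕ)
  (hsupp : topologicalKrullDim ↥(CohB1.support E ∩ (I.support : Set X)) < (d : WithBot ℕ∞))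
  {W : X.Modules} (ι : W ⟶ E) (hW : Coh.IsCoh W)
  {Q : ℚ[X]} (hQ : ShStab.IsHilbPoly k X L W Q) (QX : Fin (𝓔.l + 2) → ℚ[X])
  (hQX : ∀ j, ShStab.IsHilbPoly k X L (((𝓔.induced ι).pieceX j : Subobject W) : X.Modules) (QX j))

include hL hE h𝓔 hcoh hsupp hW hQ hQX

/-- the induced version of S18525 -/
theorem coeff_parPoly_induced_eq (n : ℕ) (hn : d ≤ n) :
    (W4swparbununimod.parPoly (𝓔.induced ι) QX).coeff n = (W4swparbununimod.rpoly Q).coeff n := by
  haveI : IsNoetherian X := isNoetherian_of_proper k X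
  exact parPoly_coeff_eq k X hL.1 hW (𝓔.induced ι) (isCoh_induced_pieceX 𝓔 ι hE hW hcoh) hQ QX hQX n
    (fun j _ hH => coeff_quot_induced_eq_zero k X hL.1 hE 𝓔 I h𝓔 hcoh d hsupp ι hW j hH n hn)

end Along

theorem natDegree_le_of_coeff {A : ℝ[X]} {P : ℚ[X]} (d : ℕ) (hP : P.natDegree ≤ d)
    (h : ∀ n, d ≤ n → A.coeff n = (W4swparbununimod.rpoly P).coeff n) : A.natDegree ≤ d := by
  rw [Polynomial.natDegree_le_iff_coeff_eq_zero]
  intro N hN
  rw [h N hN.le, Polynomial.coeff_map, Polynomial.coeff_eq_zero_of_natDegree_lt (lt_of_le_of_lt hP hN)]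
  simp

/-- S18528 -/
theorem s18528 {L E : X.Modules} (hL : CohB1.IsAmple L) (I : X.IdealSheafData)
    (hE : Coh.IsCoh E) (h0 : ¬ IsZero E) (d : ℕ) (hd : 1 ≤ d)
    (hpure : ShStab.IsPure X E d) (𝓔 : ParSh.Str E) (h𝓔 : 𝓔.Along I)
    (hcoh : ∀ j, Coh.IsCoh ((𝓔.pieceX j : Subobject E) : X.Modules))
    (hsupp : topologicalKrullDim ↥(CohB1.support E ∩ (I.support : Set X)) < (d : WithBot ℕ∞))
    (P : ℚ[X]) (hP : ShStab.IsHilbPoly k X L E P) (PX : Fin (𝓔.l + 2) → ℚ[X])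
    (hPX : ∀ j, ShStab.IsHilbPoly k X L ((𝓔.pieceX j : Subobject E) : X.Modules) (PX j))
    {W : X.Modules} (ι : W ⟶ E) [Mono ι] (hW : Coh.IsCoh W)
    (Q : ℚ[X]) (hQ : ShStab.IsHilbPoly k X L W Q) (QX : Fin (𝓔.l + 2) → ℚ[X])
    (hQX : ∀ j, ShStab.IsHilbPoly k X L (((𝓔.induced ι).pieceX j : Subobject W) : X.Modules) (QX j)) :
    ((∃ M : ℕ, ∀ m : ℕ, M ≤ m →
        (W4swparbununimod.parPoly (𝓔.induced ι) QX).eval (m : ℝ) * (StabCat.alpha d P : ℝ) ≤
          (W4swparbununimod.parPoly 𝓔 PX).eval (m : ℝ) * (StabCat.alpha d Q : ℝ)) →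
      (W4swparbununimod.parPoly (𝓔.induced ι) QX).coeff (d - 1) * (StabCat.alpha d P : ℝ) ≤
        (W4swparbununimod.parPoly 𝓔 PX).coeff (d - 1) * (StabCat.alpha d Q : ℝ)) ∧
    ((W4swparbununimod.parPoly (𝓔.induced ι) QX).coeff (d - 1) * (StabCat.alpha d P : ℝ) <
        (W4swparbununimod.parPoly 𝓔 PX).coeff (d - 1) * (StabCat.alpha d Q : ℝ) →
      ∃ M : ℕ, ∀ m : ℕ, M ≤ m →
        (W4swparbununimod.parPoly (𝓔.induced ι) QX).eval (m : ℝ) * (StabCat.alpha d P : ℝ) <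
          (W4swparbununimod.parPoly 𝓔 PX).eval (m : ℝ) * (StabCat.alpha d Q : ℝ)) := by
  have hdimE : topologicalKrullDim (CohB1.support E) = (d : WithBot ℕ∞) :=
    hpure E (𝟙 E) inferInstance hE h0
  have hPd : P.natDegree ≤ d := HilbPoly.natDegree_le k X hL.1 hE d hdimE.le hP
  have hQd : Q.natDegree ≤ d := HilbPoly.natDegree_le k X hL.1 hW d
    ((dim_mono (support_mono ι)).trans hdimE.le) hQ
  have cE := fun n hn => coeff_parPoly_eq k X hL I hE 𝓔 h𝓔 hcoh d hsupp hP PX hPX n hn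
  have cW := fun n hn =>
    coeff_parPoly_induced_eq k X hL I hE 𝓔 h𝓔 hcoh d hsupp ι hW hQ QX hQX n hn
  refine PolyAsymp.cross_compare _ _ _ _ d hd (natDegree_le_of_coeff d hQd cW)
    (natDegree_le_of_coeff d hPd cE) ?_
  rw [cE d le_rfl, cW d le_rfl, Polynomial.coeff_map, Polynomial.coeff_map]
  unfold StabCat.alpha
  simp only [eq_ratCast, Rat.cast_mul, Rat.cast_natCast]
  ring

/-- S18530 -/
theorem s18530 {L E : X.Modules} (hL : CohB1.IsAmple L) (I : X.IdealSheafData)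
    (hE : Coh.IsCoh E) (𝓔 : ParSh.Str E) (h𝓔 : 𝓔.Along I)
    (hcoh : ∀ j, Coh.IsCoh ((𝓔.pieceX j : Subobject E) : X.Modules)) (d : ℕ) (hd : 1 ≤ d)
    (hsupp : topologicalKrullDim ↥(CohB1.support E ∩ (I.support : Set X)) < (d : WithBot ℕ∞))
    (H : Fin (𝓔.l + 2) → ℚ[X]) (hH : ∀ j, ShStab.IsHilbPoly k X L (cokernel (𝓔.pieceX j).arrow) (H j))
    (hHa : ∀ j : Fin (𝓔.l + 1), StabCat.alpha (d - 1) (H j.succ) ≠ 0)
    {W : X.Modules} (ι : W ⟶ E) (hW : Coh.IsCoh W)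
    (Q : ℚ[X]) (hQ : ShStab.IsHilbPoly k X L W Q) (QX : Fin (𝓔.l + 2) → ℚ[X])
    (hQX : ∀ j, ShStab.IsHilbPoly k X L (((𝓔.induced ι).pieceX j : Subobject W) : X.Modules) (QX j))
    (QH : Fin (𝓔.l + 2) → ℚ[X])
    (hQH : ∀ j, ShStab.IsHilbPoly k X L (cokernel ((𝓔.induced ι).pieceX j).arrow) (QH j)) :
    (W4swparbununimod.parPolyOne 𝓔 d Q QH H).coeff d =
        (W4swparbununimod.parPoly (𝓔.induced ι) QX).coeff d ∧
      (W4swparbununimod.parPolyOne 𝓔 d Q QH H).coeff (d - 1) =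
        (W4swparbununimod.parPoly (𝓔.induced ι) QX).coeff (d - 1) := by
  haveI : IsNoetherian X := isNoetherian_of_proper k X
  have hLi := hL.1
  have hcohW := isCoh_induced_pieceX 𝓔 ι hE hW hcoh
  have hvanH : ∀ j n, d ≤ n → (H j).coeff n = 0 := fun j n hn =>
    coeff_quot_eq_zero k X hLi hE 𝓔 I h𝓔 hcoh d hsupp j (hH j) n hn
  have hvanQH : ∀ j n, d ≤ n → (QH j).coeff n = 0 := fun j n hn =>
    coeff_quot_induced_eq_zero k X hLi hE 𝓔 I h𝓔 hcoh d hsupp ι hW j (hQH j) n hn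
  have hpar : W4swparbununimod.parPoly (𝓔.induced ι) QX =
      W4swparbununimod.rpoly Q -
        ∑ j : Fin (𝓔.l + 1), Polynomial.C (𝓔.wtX j.succ - 𝓔.wtX j.castSucc) *
          W4swparbununimod.rpoly (QH j.succ) :=
    parPoly_eq_sub (𝓔.induced ι) Q QX QH (PX_zero_eq k X (𝓔.induced ι) hQ (hQX 0))
      (fun j => eq_add_quot k X hLi hW _ (hcohW j) hQ (hQX j) (hQH j))
  have hcoeffOne : ∀ n, (W4swparbununimod.parPolyOne 𝓔 d Q QH H).coeff n =
      ((Q.coeff n : ℚ) : ℝ) - ∑ j : Fin (𝓔.l + 1), ((𝓔.wtX j.succ - 𝓔.wtX j.castSucc) *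
        ((StabCat.alpha (d - 1) (QH j.succ) / StabCat.alpha (d - 1) (H j.succ) : ℚ) : ℝ)) *
          (((H j.succ).coeff n : ℚ) : ℝ) := by
    intro n
    unfold W4swparbununimod.parPolyOne
    rw [Polynomial.coeff_sub, Polynomial.finset_sum_coeff, Polynomial.coeff_map]
    congr 1
    refine Finset.sum_congr rfl fun j _ => ?_
    rw [Polynomial.coeff_C_mul, Polynomial.coeff_map]
    rfl
  have hcoeffPar : ∀ n, (W4swparbununimod.parPoly (𝓔.induced ι) QX).coeff n =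
      ((Q.coeff n : ℚ) : ℝ) - ∑ j : Fin (𝓔.l + 1), (𝓔.wtX j.succ - 𝓔.wtX j.castSucc) *
          (((QH j.succ).coeff n : ℚ) : ℝ) := by
    intro n
    rw [hpar, Polynomial.coeff_sub, Polynomial.finset_sum_coeff, Polynomial.coeff_map]
    congr 1
    refine Finset.sum_congr rfl fun j _ => ?_
    rw [Polynomial.coeff_C_mul, Polynomial.coeff_map]
    rfl
  constructor
  · rw [hcoeffOne, hcoeffPar]
    congr 1
    refine Finset.sum_congr rfl fun j _ => ?_
    rw [hvanH j.succ d le_rfl, hvanQH j.succ d le_rfl]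
    simp
  · rw [hcoeffOne, hcoeffPar]
    congr 1
    refine Finset.sum_congr rfl fun j _ => ?_
    rw [mul_assoc]
    congr 1
    have hne : (H j.succ).coeff (d - 1) ≠ 0 := by
      intro h
      apply hHa j
      unfold StabCat.alpha
      rw [h, mul_zero]
    have hfac : ((d - 1).factorial : ℚ) ≠ 0 := by exact_mod_cast (Nat.factorial_ne_zero _)
    have : (StabCat.alpha (d - 1) (QH j.succ) / StabCat.alpha (d - 1) (H j.succ)) *
        (H j.succ).coeff (d - 1) = (QH j.succ).coeff (d - 1) := by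
      unfold StabCat.alpha
      field_simp
    rw [← this]
    push_cast
    rfl

end Groth.Agent.Helper2.ParMain
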