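import Mathlib
import Groth.Agent.Lib.Helper2.ShStab.PolyAsymp

/-!
# Limits of ratios of polynomials and a two-variable comparison (helper2)
-/

set_option autoImplicit false

namespace Groth.Agent.Helper2.PolyAsymp

open Polynomial Filter Topology Finset

/-- `A(n) / B(n) → coeff_e(A) / coeff_e(B)` when both have degree `≤ e` and `coeff_e(B) ≠ 0` -/
theorem tendsto_ratio (A B : ℝ[X]) (e : ℕ) (hA : A.natDegree ≤ e) (hB : B.natDegree ≤ e)
    (h : B.coeff e ≠ 0) :
    Tendsto (fun n : ℕ => A.eval (n : ℝ) / B.eval (n : ℝ)) atTop (𝓝 (A.coeff e / B.coeff e)) := by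
  have h1 := (tendsto_eval_div_pow A e hA).div (tendsto_eval_div_pow B e hB) h
  refine Tendsto.congr' ?_ h1
  filter_upwards [eventually_ge_atTop 1] with n hn
  have hn0 : ((n : ℝ)) ^ e ≠ 0 := pow_ne_zero _ (by exact_mod_cast (by omega : n ≠ 0))
  simp only [Pi.div_apply]
  rw [div_div_div_cancel_right₀ hn0]

/-- passing to the limit `n → ∞` in a cross-multiplied inequality -/
theorem limit_compare {J : Type*} [Fintype J] (A C : ℝ) (δ h ρ : J → ℝ) (r : J → ℕ → ℝ)
    (p q : ℕ → ℝ) (p' q' : ℝ) (d : ℕ)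
    (hr : ∀ j, Tendsto (r j) atTop (𝓝 (ρ j)))
    (hp : Tendsto (fun n : ℕ => p n / (n : ℝ) ^ d) atTop (𝓝 p'))
    (hq : Tendsto (fun n : ℕ => q n / (n : ℝ) ^ d) atTop (𝓝 q')) :
    ((∃ N : ℕ, ∀ n : ℕ, N ≤ n → (A - ∑ j, δ j * (r j n * h j)) * p n ≤ C * q n) →
        (A - ∑ j, δ j * (ρ j * h j)) * p' ≤ C * q') ∧
      ((A - ∑ j, δ j * (ρ j * h j)) * p' < C * q' →
        ∃ N : ℕ, ∀ n : ℕ, N ≤ n → (A - ∑ j, δ j * (r j n * h j)) * p n < C * q n) := by
  have hsum : Tendsto (fun n : ℕ => A - ∑ j, δ j * (r j n * h j)) atTop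
      (𝓝 (A - ∑ j, δ j * (ρ j * h j))) := by
    refine tendsto_const_nhds.sub (tendsto_finsetSum _ fun j _ => ?_)
    exact ((hr j).mul_const (h j)).const_mul (δ j)
  have hF : Tendsto (fun n : ℕ => (A - ∑ j, δ j * (r j n * h j)) * (p n / (n : ℝ) ^ d)) atTop
      (𝓝 ((A - ∑ j, δ j * (ρ j * h j)) * p')) := hsum.mul hp
  have hG : Tendsto (fun n : ℕ => C * (q n / (n : ℝ) ^ d)) atTop (𝓝 (C * q')) := hq.const_mul C
  constructor
  · rintro ⟨N, hN⟩
    refine le_of_tendsto_of_tendsto hF hG ?_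
    filter_upwards [eventually_ge_atTop (max N 1)] with n hn
    have hpos : (0 : ℝ) < (n : ℝ) ^ d :=
      pow_pos (by exact_mod_cast (by omega : 0 < n)) d
    have := hN n (le_trans (le_max_left _ _) hn)
    rw [← mul_div_assoc, ← mul_div_assoc]
    exact div_le_div_of_nonneg_right this hpos.le
  · intro hlt
    have hev := hF.eventually_lt hG hlt
    have hev2 := hev.and (eventually_ge_atTop 1)
    obtain ⟨N, hN⟩ := eventually_atTop.1 hev2
    refine ⟨N, fun n hn => ?_⟩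
    obtain ⟨h1, h2⟩ := hN n hn
    have hpos : (0 : ℝ) < (n : ℝ) ^ d :=
      pow_pos (by exact_mod_cast (by omega : 0 < n)) d
    rw [← mul_div_assoc, ← mul_div_assoc] at h1
    exact (div_lt_div_iff_of_pos_right hpos).1 h1

end Groth.Agent.Helper2.PolyAsymp
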