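import Mathlib
import Groth.Agent.Lib.Helper2.ShStab.ParMain2
import Groth.Agent.Lib.Helper2.ShStab.PolyLimit

/-!
# The second modified parabolic Hilbert polynomial versus the first (helper2): S18532
-/

set_option autoImplicit false
universe u
open CategoryTheory CategoryTheory.Limits AlgebraicGeometry Polynomial Filter Topology

namespace Groth.Agent.Helper2.ParMain

open Groth.Agent.Helper1 Groth.Agent.Helper1.Dv Groth.Agent.Helper1.Euler
open Groth.Agent.Helper2.HilbBasic Groth.Agent.Helper2 Groth.Agent.Helper2.ParPoly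
open Groth.Agent.Helper2.ParSupp Groth.Agent.Helper2.ParCoeff

theorem tendsto_rat_eval_div_pow (P : ℚ[X]) (d : ℕ) (hP : P.natDegree ≤ d) :
    Tendsto (fun n : ℕ => ((P.eval (n : ℚ) : ℚ) : ℝ) / (n : ℝ) ^ d) atTop
      (𝓝 ((P.coeff d : ℚ) : ℝ)) := by
  have h := PolyAsymp.tendsto_eval_div_pow (W4swparbununimod.rpoly P) d
    (Polynomial.natDegree_map_le.trans hP)
  rw [Polynomial.coeff_map] at h
  refine (Tendsto.congr (fun n => ?_) h)
  rw [rpoly_eval_nat]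

theorem tendsto_rat_ratio (A B : ℚ[X]) (e : ℕ) (hA : A.natDegree ≤ e) (hB : B.natDegree ≤ e)
    (h : B.coeff e ≠ 0) :
    Tendsto (fun n : ℕ => ((A.eval (n : ℚ) / B.eval (n : ℚ) : ℚ) : ℝ)) atTop
      (𝓝 ((A.coeff e / B.coeff e : ℚ) : ℝ)) := by
  have h1 := PolyAsymp.tendsto_ratio (W4swparbununimod.rpoly A) (W4swparbununimod.rpoly B) e
    (Polynomial.natDegree_map_le.trans hA) (Polynomial.natDegree_map_le.trans hB) (by
      rw [Polynomial.coeff_map]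
      simpa using h)
  rw [Polynomial.coeff_map, Polynomial.coeff_map] at h1
  have e1 : ((A.coeff e / B.coeff e : ℚ) : ℝ) =
      (Rat.castHom ℝ) (A.coeff e) / (Rat.castHom ℝ) (B.coeff e) := by
    simp
  rw [e1]
  refine (Tendsto.congr (fun n => ?_) h1)
  rw [rpoly_eval_nat, rpoly_eval_nat, Rat.cast_div]

variable (k : Type u) [Field k] (X : Scheme.{u}) [X.Over (Spec (CommRingCat.of k))]
  [IsProper (X ↘ (Spec (CommRingCat.of k)))]

/-- S18532 -/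
theorem s18532 {L E : X.Modules} (hL : CohB1.IsAmple L) (I : X.IdealSheafData)
    (hE : Coh.IsCoh E) (𝓔 : ParSh.Str E) (h𝓔 : 𝓔.Along I)
    (hcoh : ∀ j, Coh.IsCoh ((𝓔.pieceX j : Subobject E) : X.Modules)) (d : ℕ) (hd : 1 ≤ d)
    (hsupp : topologicalKrullDim ↥(CohB1.support E ∩ (I.support : Set X)) < (d : WithBot ℕ∞))
    (h0 : ¬ IsZero E) (hpure : ShStab.IsPure X E d)
    (P : ℚ[X]) (hP : ShStab.IsHilbPoly k X L E P) (PX : Fin (𝓔.l + 2) → ℚ[X])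
    (H : Fin (𝓔.l + 2) → ℚ[X]) (hH : ∀ j, ShStab.IsHilbPoly k X L (cokernel (𝓔.pieceX j).arrow) (H j))
    (hHa : ∀ j : Fin (𝓔.l + 1), StabCat.alpha (d - 1) (H j.succ) ≠ 0)
    {W : X.Modules} (ι : W ⟶ E) [Mono ι] (hW : Coh.IsCoh W)
    (Q : ℚ[X]) (hQ : ShStab.IsHilbPoly k X L W Q) (QH : Fin (𝓔.l + 2) → ℚ[X])
    (hQH : ∀ j, ShStab.IsHilbPoly k X L (cokernel ((𝓔.induced ι).pieceX j).arrow) (QH j)) :
    ((∃ M : ℕ, ∀ m : ℕ, M ≤ m → ∃ N : ℕ, ∀ n : ℕ, N ≤ n →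
        (((Q.eval (m : ℚ) : ℚ) : ℝ) -
            ∑ j : Fin (𝓔.l + 1), (𝓔.wtX j.succ - 𝓔.wtX j.castSucc) *
              ((((QH j.succ).eval (n : ℚ) / (H j.succ).eval (n : ℚ) : ℚ) : ℝ) * (((H j.succ).eval (m : ℚ) : ℚ) : ℝ))) *
          ((P.eval (n : ℚ) : ℚ) : ℝ) ≤
        (W4swparbununimod.parPoly 𝓔 PX).eval (m : ℝ) * ((Q.eval (n : ℚ) : ℚ) : ℝ)) →
      ∃ M : ℕ, ∀ m : ℕ, M ≤ m →
        (W4swparbununimod.parPolyOne 𝓔 d Q QH H).eval (m : ℝ) * (StabCat.alpha d P : ℝ) ≤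
          (W4swparbununimod.parPoly 𝓔 PX).eval (m : ℝ) * (StabCat.alpha d Q : ℝ)) ∧
    ((∃ M : ℕ, ∀ m : ℕ, M ≤ m →
        (W4swparbununimod.parPolyOne 𝓔 d Q QH H).eval (m : ℝ) * (StabCat.alpha d P : ℝ) <
          (W4swparbununimod.parPoly 𝓔 PX).eval (m : ℝ) * (StabCat.alpha d Q : ℝ)) →
      ∃ M : ℕ, ∀ m : ℕ, M ≤ m → ∃ N : ℕ, ∀ n : ℕ, N ≤ n →
        (((Q.eval (m : ℚ) : ℚ) : ℝ) -
            ∑ j : Fin (𝓔.l + 1), (𝓔.wtX j.succ - 𝓔.wtX j.castSucc) *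
              ((((QH j.succ).eval (n : ℚ) / (H j.succ).eval (n : ℚ) : ℚ) : ℝ) * (((H j.succ).eval (m : ℚ) : ℚ) : ℝ))) *
          ((P.eval (n : ℚ) : ℚ) : ℝ) <
        (W4swparbununimod.parPoly 𝓔 PX).eval (m : ℝ) * ((Q.eval (n : ℚ) : ℚ) : ℝ)) := by
  haveI : IsNoetherian X := isNoetherian_of_proper k X
  have hLi := hL.1
  have hdimE : topologicalKrullDim (CohB1.support E) = (d : WithBot ℕ∞) :=
    hpure E (𝟙 E) inferInstance hE h0
  have hPd : P.natDegree ≤ d := HilbPoly.natDegree_le k X hLi hE d hdimE.le hP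
  have hQd : Q.natDegree ≤ d := HilbPoly.natDegree_le k X hLi hW d
    ((dim_mono (support_mono ι)).trans hdimE.le) hQ
  have hHdeg : ∀ j, (H j).natDegree ≤ d - 1 := by
    intro j
    rw [Polynomial.natDegree_le_iff_coeff_eq_zero]
    intro N hN
    exact coeff_quot_eq_zero k X hLi hE 𝓔 I h𝓔 hcoh d hsupp j (hH j) N (by omega)
  have hQHdeg : ∀ j, (QH j).natDegree ≤ d - 1 := by
    intro j
    rw [Polynomial.natDegree_le_iff_coeff_eq_zero]
    intro N hN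
    exact coeff_quot_induced_eq_zero k X hLi hE 𝓔 I h𝓔 hcoh d hsupp ι hW j (hQH j) N (by omega)
  have hfac : (0 : ℝ) < (d.factorial : ℝ) := by exact_mod_cast Nat.factorial_pos d
  have hαP : (StabCat.alpha d P : ℝ) = (d.factorial : ℝ) * ((P.coeff d : ℚ) : ℝ) := by
    unfold StabCat.alpha
    push_cast
    ring
  have hαQ : (StabCat.alpha d Q : ℝ) = (d.factorial : ℝ) * ((Q.coeff d : ℚ) : ℝ) := by
    unfold StabCat.alpha
    push_cast
    ring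
  have key : ∀ m : ℕ,
      ((∃ N : ℕ, ∀ n : ℕ, N ≤ n →
        (((Q.eval (m : ℚ) : ℚ) : ℝ) -
            ∑ j : Fin (𝓔.l + 1), (𝓔.wtX j.succ - 𝓔.wtX j.castSucc) *
              ((((QH j.succ).eval (n : ℚ) / (H j.succ).eval (n : ℚ) : ℚ) : ℝ) * (((H j.succ).eval (m : ℚ) : ℚ) : ℝ))) *
          ((P.eval (n : ℚ) : ℚ) : ℝ) ≤
        (W4swparbununimod.parPoly 𝓔 PX).eval (m : ℝ) * ((Q.eval (n : ℚ) : ℚ) : ℝ)) →
        (W4swparbununimod.parPolyOne 𝓔 d Q QH H).eval (m : ℝ) * (StabCat.alpha d P : ℝ) ≤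
          (W4swparbununimod.parPoly 𝓔 PX).eval (m : ℝ) * (StabCat.alpha d Q : ℝ)) ∧
      ((W4swparbununimod.parPolyOne 𝓔 d Q QH H).eval (m : ℝ) * (StabCat.alpha d P : ℝ) <
          (W4swparbununimod.parPoly 𝓔 PX).eval (m : ℝ) * (StabCat.alpha d Q : ℝ) →
        ∃ N : ℕ, ∀ n : ℕ, N ≤ n →
        (((Q.eval (m : ℚ) : ℚ) : ℝ) -
            ∑ j : Fin (𝓔.l + 1), (𝓔.wtX j.succ - 𝓔.wtX j.castSucc) *
              ((((QH j.succ).eval (n : ℚ) / (H j.succ).eval (n : ℚ) : ℚ) : ℝ) * (((H j.succ).eval (m : ℚ) : ℚ) : ℝ))) *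
          ((P.eval (n : ℚ) : ℚ) : ℝ) <
        (W4swparbununimod.parPoly 𝓔 PX).eval (m : ℝ) * ((Q.eval (n : ℚ) : ℚ) : ℝ)) := by
    intro m
    have hr : ∀ j : Fin (𝓔.l + 1), Tendsto
        (fun n : ℕ => ((((QH j.succ).eval (n : ℚ) / (H j.succ).eval (n : ℚ) : ℚ)) : ℝ)) atTop
        (𝓝 ((StabCat.alpha (d - 1) (QH j.succ) / StabCat.alpha (d - 1) (H j.succ) : ℚ) : ℝ)) := by
      intro j
      have hne : (H j.succ).coeff (d - 1) ≠ 0 := by
        intro h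
        apply hHa j
        unfold StabCat.alpha
        rw [h, mul_zero]
      have hfac' : ((d - 1).factorial : ℚ) ≠ 0 := by exact_mod_cast (Nat.factorial_ne_zero _)
      have e1 : StabCat.alpha (d - 1) (QH j.succ) / StabCat.alpha (d - 1) (H j.succ) =
          (QH j.succ).coeff (d - 1) / (H j.succ).coeff (d - 1) := by
        unfold StabCat.alpha
        field_simp
      rw [e1]
      exact tendsto_rat_ratio _ _ (d - 1) (hQHdeg _) (hHdeg _) hne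
    have hlim := PolyAsymp.limit_compare (J := Fin (𝓔.l + 1)) ((Q.eval (m : ℚ) : ℚ) : ℝ)
      ((W4swparbununimod.parPoly 𝓔 PX).eval (m : ℝ))
      (fun j => 𝓔.wtX j.succ - 𝓔.wtX j.castSucc)
      (fun j => (((H j.succ).eval (m : ℚ) : ℚ) : ℝ))
      (fun j => ((StabCat.alpha (d - 1) (QH j.succ) / StabCat.alpha (d - 1) (H j.succ) : ℚ) : ℝ))
      (fun j n => ((((QH j.succ).eval (n : ℚ) / (H j.succ).eval (n : ℚ) : ℚ)) : ℝ))
      (fun n => ((P.eval (n : ℚ) : ℚ) : ℝ)) (fun n => ((Q.eval (n : ℚ) : ℚ) : ℝ))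
      ((P.coeff d : ℚ) : ℝ) ((Q.coeff d : ℚ) : ℝ) d hr
      (tendsto_rat_eval_div_pow P d hPd) (tendsto_rat_eval_div_pow Q d hQd)
    have hone : (W4swparbununimod.parPolyOne 𝓔 d Q QH H).eval (m : ℝ) =
        ((Q.eval (m : ℚ) : ℚ) : ℝ) - ∑ j : Fin (𝓔.l + 1), (𝓔.wtX j.succ - 𝓔.wtX j.castSucc) *
          (((StabCat.alpha (d - 1) (QH j.succ) / StabCat.alpha (d - 1) (H j.succ) : ℚ) : ℝ) *
            (((H j.succ).eval (m : ℚ) : ℚ) : ℝ)) := by
      unfold W4swparbununimod.parPolyOne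
      rw [Polynomial.eval_sub, Polynomial.eval_finsetSum, rpoly_eval_nat]
      congr 1
      refine Finset.sum_congr rfl fun j _ => ?_
      rw [Polynomial.eval_mul, Polynomial.eval_C, rpoly_eval_nat]
      ring
    constructor
    · intro hN
      have h1 := hlim.1 hN
      rw [hone, hαP, hαQ]
      have h2 := mul_le_mul_of_nonneg_left h1 hfac.le
      linarith
    · intro hlt
      apply hlim.2
      rw [hone, hαP, hαQ] at hlt
      have h3 : (d.factorial : ℝ) * ((((Q.eval (m : ℚ) : ℚ) : ℝ) -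
          ∑ j : Fin (𝓔.l + 1), (𝓔.wtX j.succ - 𝓔.wtX j.castSucc) *
          (((StabCat.alpha (d - 1) (QH j.succ) / StabCat.alpha (d - 1) (H j.succ) : ℚ) : ℝ) *
            (((H j.succ).eval (m : ℚ) : ℚ) : ℝ))) * ((P.coeff d : ℚ) : ℝ)) <
          (d.factorial : ℝ) * ((W4swparbununimod.parPoly 𝓔 PX).eval (m : ℝ) *
            ((Q.coeff d : ℚ) : ℝ)) := by
        linarith
      exact lt_of_mul_lt_mul_left h3 hfac.le
  constructor
  · rintro ⟨M, hM⟩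
    exact ⟨M, fun m hm => (key m).1 (hM m hm)⟩
  · rintro ⟨M, hM⟩
    exact ⟨M, fun m hm => (key m).2 (hM m hm)⟩

end Groth.Agent.Helper2.ParMain
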